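import Mathlib.LinearAlgebra.SymmetricAlgebra.Basic
import Mathlib.RingTheory.GradedAlgebra.Basic
import Mathlib.Algebra.DirectSum.Algebra

/-!
Homogeneity of algebra homomorphisms out of a graded symmetric algebra (helper18).
-/

set_option autoImplicit false
universe u

open DirectSum

namespace Groth.Agent.H18.PUP

variable {A S B M : Type*} [CommRing A] [CommRing S] [Algebra A S] [CommRing B] [Algebra A B]
variable (𝒮 : ℕ → Submodule A S) [GradedAlgebra 𝒮]

/-- twisting an algebra homomorphism by `u ^ degree` -/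
noncomputable def twistHom (Ψ : S →ₐ[A] B) (u : B) : S →ₐ[A] B :=
  (DirectSum.toAlgebra A (fun i => 𝒮 i)
    (fun i => (LinearMap.mulLeft A (u ^ i)).comp (Ψ.toLinearMap.comp (𝒮 i).subtype))
    (by
      change u ^ 0 * Ψ ((1 : S)) = 1
      rw [pow_zero, one_mul, map_one])
    (by
      intro i j ai aj
      change u ^ (i + j) * Ψ ((ai : S) * (aj : S)) = (u ^ i * Ψ ai) * (u ^ j * Ψ aj)
      rw [map_mul, pow_add]
      ring)).comp (DirectSum.decomposeAlgEquiv 𝒮).toAlgHom

theorem twistHom_apply (Ψ : S →ₐ[A] B) (u : B) {k : ℕ} {a : S} (ha : a ∈ 𝒮 k) :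
    twistHom 𝒮 Ψ u a = u ^ k * Ψ a := by
  unfold twistHom
  rw [AlgHom.comp_apply]
  have h1 : (DirectSum.decomposeAlgEquiv 𝒮).toAlgHom a = DirectSum.of (fun i => 𝒮 i) k ⟨a, ha⟩ :=
    DirectSum.decompose_of_mem 𝒮 ha
  rw [h1, DirectSum.toAlgebra_apply, DirectSum.toSemiring_of]
  rfl

variable [AddCommGroup M] [Module A M]

/-- two algebra homomorphisms out of a graded symmetric algebra generated in degree one which
differ by the factor `u` on the generators differ by `u ^ k` in degree `k` -/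
theorem eq_pow_mul_of_isSymmetricAlgebra {ι : M →ₗ[A] S} (hι : ∀ m, ι m ∈ 𝒮 1)
    (hsym : IsSymmetricAlgebra ι) (Φ Ψ : S →ₐ[A] B) (u : B)
    (h : ∀ m, Φ (ι m) = u * Ψ (ι m)) {k : ℕ} {a : S} (ha : a ∈ 𝒮 k) :
    Φ a = u ^ k * Ψ a := by
  have key : Φ = twistHom 𝒮 Ψ u := by
    apply hsym.algHom_ext
    ext m
    change Φ (ι m) = twistHom 𝒮 Ψ u (ι m)
    rw [twistHom_apply 𝒮 Ψ u (hι m), pow_one, h]
  rw [key, twistHom_apply 𝒮 Ψ u ha]

/-- a symmetric algebra is generated by the module -/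
theorem adjoin_range_eq_top_of_isSymmetricAlgebra {ι : M →ₗ[A] S} (hsym : IsSymmetricAlgebra ι) :
    Algebra.adjoin A (Set.range ι) = ⊤ := by
  rw [eq_top_iff]
  intro a _
  induction a using hsym.induction with
  | algebraMap r => exact Subalgebra.algebraMap_mem _ r
  | ι x => exact Algebra.subset_adjoin ⟨x, rfl⟩
  | mul a b ha hb => exact Subalgebra.mul_mem _ (ha trivial) (hb trivial)
  | add a b ha hb => exact Subalgebra.add_mem _ (ha trivial) (hb trivial)

end Groth.Agent.H18.PUP
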