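import Groth.Agent.H18.PUP.CoreMod
import Groth.Agent.H18.PUP.SymTwist
import Groth.Agent.H8.MeroGen
import Groth.Agent.H18.TwistGenCover

set_option autoImplicit false
universe u

open AlgebraicGeometry CategoryTheory CategoryTheory.Limits TopologicalSpace Opposite

namespace Groth.Agent.H18.PUP

section basis

variable {Y : Scheme.{u}} {N : Y.Modules}

theorem IsBasisOn.unit_smul {W : Y.Opens} {t : Γ(N, W)} (ht : IsBasisOn N W t) (c : Γ(Y, W))
    (hc : IsUnit c) : IsBasisOn N W (c • t) := by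
  intro V hV
  have h1 : (fun r : Γ(Y, V) => r • mres N hV (c • t)) =
      (fun r : Γ(Y, V) => r • mres N hV t) ∘
        (fun r : Γ(Y, V) => r * Y.presheaf.map (homOfLE hV).op c) := by
    funext r
    change r • mres N hV (c • t) = (r * Y.presheaf.map (homOfLE hV).op c) • mres N hV t
    rw [mres_smul, mul_smul]
  rw [h1]
  exact (ht V hV).comp (IsUnit.isUnit_iff_mulRight_bijective.mp
    (hc.map (Y.presheaf.map (homOfLE hV).op).hom))

theorem isBasisOn_of_isFreeGen {W : Y.Opens} {t : Γ(N, W)} (h : H8.IsFreeGen N W t) :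
    IsBasisOn N W t := h

/-- if global sections generate an invertible module, then near every point one of them is a
local basis -/
theorem exists_basis_nhd (L : Y.Modules) (hL : PicF.IsInvertible L) {J : Type*}
    (v : J → Γ(L, (⊤ : Y.Opens))) (hgen : ProjUP.GeneratedBy L v) (x : Y) :
    ∃ (j : J) (W : Y.Opens), x ∈ W ∧ IsBasisOn L W (mres L (le_top : W ≤ ⊤) (v j)) := by
  obtain ⟨U, hxU, σ, hσ'⟩ := H8.exists_isFreeGen_of_isInvertible hL x
  have hσ : IsBasisOn L U σ := hσ'
  have hbij := hσ'.germ_bijective hxU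
  -- coordinates
  let cf : J → Γ(Y, U) := fun j => hσ.coord le_rfl (mres L (le_top : U ≤ ⊤) (v j))
  have hcf : ∀ j, cf j • σ = mres L (le_top : U ≤ ⊤) (v j) := by
    intro j
    have := hσ.coord_smul le_rfl (mres L (le_top : U ≤ ⊤) (v j))
    rwa [mres_self] at this
  have hgerm : ∀ j, (L.presheaf.germ ⊤ x trivial).hom (v j) =
      Y.presheaf.germ U x hxU (cf j) • L.presheaf.germ U x hxU σ := by
    intro j
    rw [← germ_smul', hcf]
    exact (TopCat.Presheaf.germ_res_apply L.presheaf (homOfLE (le_top : U ≤ ⊤)) x hxU (v j)).symm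
  -- some coordinate is a unit at `x`
  have hex : ∃ j, IsUnit (Y.presheaf.germ U x hxU (cf j)) := by
    by_contra hcon
    push Not at hcon
    let P : Submodule (Y.presheaf.stalk x) (L.presheaf.stalk x) :=
      (IsLocalRing.maximalIdeal (Y.presheaf.stalk x)) • (⊤ : Submodule _ (L.presheaf.stalk x))
    have hle : Submodule.span (Y.presheaf.stalk x)
        (Set.range fun j => (L.presheaf.germ ⊤ x trivial).hom (v j)) ≤ P := by
      rw [Submodule.span_le]
      rintro _ ⟨j, rfl⟩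
      change (L.presheaf.germ ⊤ x trivial).hom (v j) ∈ P
      rw [hgerm]
      exact Submodule.smul_mem_smul ((IsLocalRing.mem_maximalIdeal _).mpr (hcon j)) trivial
    rw [hgen x] at hle
    have hmem : L.presheaf.germ U x hxU σ ∈ P := hle trivial
    -- every element of `P` is `y • σ_x` with `y` in the maximal ideal
    have hP : ∀ z ∈ P, ∃ y ∈ IsLocalRing.maximalIdeal (Y.presheaf.stalk x),
        z = y • L.presheaf.germ U x hxU σ := by
      intro z hz
      refine Submodule.smul_induction_on hz ?_ ?_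
      · intro y hy n _
        obtain ⟨y', rfl⟩ := hbij.2 n
        exact ⟨y * y', Ideal.mul_mem_right _ _ hy, by rw [mul_smul]⟩
      · rintro z z' ⟨y, hy, rfl⟩ ⟨y', hy', rfl⟩
        exact ⟨y + y', Ideal.add_mem _ hy hy', by rw [add_smul]⟩
    obtain ⟨y, hy, hy'⟩ := hP _ hmem
    have h1 : (1 : Y.presheaf.stalk x) = y := by
      apply hbij.1
      change (1 : Y.presheaf.stalk x) • L.presheaf.germ U x hxU σ = y • _
      rw [one_smul]
      exact hy'
    rw [← h1] at hy
    exact (IsLocalRing.maximalIdeal (Y.presheaf.stalk x)).ne_top_iff_one.mp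
      (IsLocalRing.maximalIdeal.isMaximal _).ne_top hy
  obtain ⟨j, hj⟩ := hex
  refine ⟨j, Y.basicOpen (cf j), (Y.mem_basicOpen (cf j) x hxU).mpr hj, ?_⟩
  have hWU : Y.basicOpen (cf j) ≤ U := Y.basicOpen_le (cf j)
  have hu : IsUnit (Y.presheaf.map (homOfLE hWU).op (cf j)) :=
    RingedSpace.isUnit_res_basicOpen Y.toRingedSpace (cf j)
  have h2 := (hσ.mono hWU).unit_smul _ hu
  have h3 : Y.presheaf.map (homOfLE hWU).op (cf j) • mres L hWU σ =
      mres L (le_top : Y.basicOpen (cf j) ≤ ⊤) (v j) := by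
    rw [← mres_smul, hcf, mres_mres]
  rw [h3] at h2
  exact h2

end basis


section charts

variable {A S : Type u} [CommRing A] [CommRing S] [Algebra A S]
variable (𝒮 : ℕ → Submodule A S) [GradedAlgebra 𝒮]
variable {M : Type u} [AddCommGroup M] [Module A M] (ι : M →ₗ[A] S) (hι : ∀ m, ι m ∈ 𝒮 1)
  (hsym : IsSymmetricAlgebra ι)
variable {X : Scheme.{u}} (q : X ⟶ Spec (CommRingCat.of A)) (L : X.Modules)
  (v : M →+ ProjUP.Γm L) (hv : ∀ (a : A) (m : M), v (a • m) = ProjUP.toGlobal q a • v m)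

/-- `A → Γ(X, W)` -/
noncomputable def resGlobal (W : X.Opens) : A →+* Γ(X, W) :=
  (X.presheaf.map (homOfLE (le_top : W ≤ ⊤)).op).hom.comp (ProjUP.toGlobal q)

theorem resGlobal_res {W W' : X.Opens} (h : W' ≤ W) (a : A) :
    X.presheaf.map (homOfLE h).op (resGlobal q W a) = resGlobal q W' a := by
  change X.presheaf.map (homOfLE h).op (X.presheaf.map (homOfLE (le_top : W ≤ ⊤)).op _) = _
  rw [← ConcreteCategory.comp_apply, ← X.presheaf.map_comp]
  rfl

include hsym hv in
theorem exists_chartHom (W : X.Opens) (m : M)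
    (hb : IsBasisOn L W (mres L (le_top : W ≤ ⊤) (v m))) :
    ∃ F : S →+* Γ(X, W),
      (∀ m', F (ι m') • mres L (le_top : W ≤ ⊤) (v m) = mres L (le_top : W ≤ ⊤) (v m')) ∧
      (∀ a : A, F (algebraMap A S a) = resGlobal q W a) := by
  let _ : Algebra A Γ(X, W) := (resGlobal q W).toAlgebra
  have hcs : ∀ m', hb.coord le_rfl (mres L (le_top : W ≤ ⊤) (v m')) •
      mres L (le_top : W ≤ ⊤) (v m) = mres L (le_top : W ≤ ⊤) (v m') := by
    intro m'
    have := hb.coord_smul le_rfl (mres L (le_top : W ≤ ⊤) (v m'))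
    rwa [mres_self] at this
  have hcu : ∀ (m' : M) (r : Γ(X, W)), r • mres L (le_top : W ≤ ⊤) (v m) =
      mres L (le_top : W ≤ ⊤) (v m') → r = hb.coord le_rfl (mres L (le_top : W ≤ ⊤) (v m')) := by
    intro m' r h
    apply hb.coord_unique
    rw [mres_self]
    exact h
  let ℓ : M →ₗ[A] Γ(X, W) :=
    { toFun := fun m' => hb.coord le_rfl (mres L (le_top : W ≤ ⊤) (v m'))
      map_add' := by
        intro m₁ m₂
        symm
        apply hcu
        rw [add_smul, hcs, hcs, map_add, map_add]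
      map_smul' := by
        intro a m'
        symm
        apply hcu
        rw [RingHom.id_apply, Algebra.smul_def, mul_smul, hcs, hv, mres_smul]
        rfl }
  refine ⟨(hsym.lift ℓ).toRingHom, fun m' => ?_, fun a => ?_⟩
  · change hsym.lift ℓ (ι m') • _ = _
    rw [hsym.lift_eq]
    exact hcs m'
  · change hsym.lift ℓ (algebraMap A S a) = _
    rw [AlgHom.commutes]
    rfl

/-- the chart attached to an open on which `v m` is a basis -/
noncomputable def chartOf (W : X.Opens) (m : M)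
    (hb : IsBasisOn L W (mres L (le_top : W ≤ ⊤) (v m))) :
    Chart q L (fun m => ι m) (fun m => v m) where
  W := W
  j := m
  F := (exists_chartHom ι hsym q L v hv W m hb).choose
  basis := hb
  F_b := (exists_chartHom ι hsym q L v hv W m hb).choose_spec.1
  F_alg := (exists_chartHom ι hsym q L v hv W m hb).choose_spec.2

include hι hsym in
theorem chart_compat (c c' : Chart q L (fun m => ι m) (fun m => v m)) :
    ∃ u : Γ(X, c.W ⊓ c'.W), ∀ (k : ℕ) (a : S), a ∈ 𝒮 k →
      X.presheaf.map (homOfLE (inf_le_right : c.W ⊓ c'.W ≤ c'.W)).op (c'.F a) =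
        u ^ k * X.presheaf.map (homOfLE (inf_le_left : c.W ⊓ c'.W ≤ c.W)).op (c.F a) := by
  let _ : Algebra A Γ(X, c.W ⊓ c'.W) := (resGlobal q (c.W ⊓ c'.W)).toAlgebra
  let Φ : S →ₐ[A] Γ(X, c.W ⊓ c'.W) :=
    { toRingHom := (X.presheaf.map (homOfLE (inf_le_right : c.W ⊓ c'.W ≤ c'.W)).op).hom.comp c'.F
      commutes' := by
        intro a
        change X.presheaf.map (homOfLE (inf_le_right : c.W ⊓ c'.W ≤ c'.W)).op
          (c'.F (algebraMap A S a)) = resGlobal q (c.W ⊓ c'.W) a
        rw [c'.F_alg]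
        exact resGlobal_res q inf_le_right a }
  let Ψ : S →ₐ[A] Γ(X, c.W ⊓ c'.W) :=
    { toRingHom := (X.presheaf.map (homOfLE (inf_le_left : c.W ⊓ c'.W ≤ c.W)).op).hom.comp c.F
      commutes' := by
        intro a
        change X.presheaf.map (homOfLE (inf_le_left : c.W ⊓ c'.W ≤ c.W)).op
          (c.F (algebraMap A S a)) = resGlobal q (c.W ⊓ c'.W) a
        rw [c.F_alg]
        exact resGlobal_res q inf_le_left a }
  refine ⟨Φ (ι c.j), fun k a ha => ?_⟩
  refine eq_pow_mul_of_isSymmetricAlgebra 𝒮 hι hsym Φ Ψ (Φ (ι c.j)) (fun m'' => ?_) ha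
  -- compare on the basis `v c'.j`
  apply (c'.basis (c.W ⊓ c'.W) inf_le_right).1
  change Φ (ι m'') • mres L inf_le_right (mres L (le_top : c'.W ≤ ⊤) (v c'.j)) =
    (Φ (ι c.j) * Ψ (ι m'')) • mres L inf_le_right (mres L (le_top : c'.W ≤ ⊤) (v c'.j))
  have hΦ : ∀ m₀, Φ (ι m₀) • mres L (inf_le_right : c.W ⊓ c'.W ≤ c'.W)
      (mres L (le_top : c'.W ≤ ⊤) (v c'.j)) = mres L (le_top : c.W ⊓ c'.W ≤ ⊤) (v m₀) := by
    intro m₀
    change X.presheaf.map (homOfLE (inf_le_right : c.W ⊓ c'.W ≤ c'.W)).op (c'.F (ι m₀)) • _ = _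
    rw [← mres_smul, c'.F_b, mres_mres]
  have hΨ : ∀ m₀, Ψ (ι m₀) • mres L (inf_le_left : c.W ⊓ c'.W ≤ c.W)
      (mres L (le_top : c.W ≤ ⊤) (v c.j)) = mres L (le_top : c.W ⊓ c'.W ≤ ⊤) (v m₀) := by
    intro m₀
    change X.presheaf.map (homOfLE (inf_le_left : c.W ⊓ c'.W ≤ c.W)).op (c.F (ι m₀)) • _ = _
    rw [← mres_smul, c.F_b, mres_mres]
  rw [hΦ, mul_comm, mul_smul, hΦ, ← hΨ m'', mres_mres]

end charts

end Groth.Agent.H18.PUP
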