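import Groth.Agent.H18.PUP.Unique

/-!
Uniqueness in the universal property of `Proj (Sym M)`, with the compatibility only required on a
spanning set of `M` (helper18).
-/

set_option autoImplicit false
universe u

open AlgebraicGeometry CategoryTheory CategoryTheory.Limits HomogeneousLocalization TopologicalSpace Opposite

namespace Groth.Agent.H18.PUP

variable {A S : Type u} [CommRing A] [CommRing S] [Algebra A S]
variable (𝒮 : ℕ → Submodule A S) [GradedAlgebra 𝒮]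
variable {M : Type u} [AddCommGroup M] [Module A M] (ι : M →ₗ[A] S) (hι : ∀ m : M, ι m ∈ 𝒮 1)
  (hsym : IsSymmetricAlgebra ι)

include hsym in
theorem adjoin_image_eq_top_of_span (T : Set M) (hT : Submodule.span A T = ⊤) :
    Algebra.adjoin A (Set.range fun t : T => ι t.1) = ⊤ := by
  rw [eq_top_iff, ← adjoin_range_eq_top_of_isSymmetricAlgebra hsym]
  apply Algebra.adjoin_le
  rintro _ ⟨m, rfl⟩
  have hm : m ∈ Submodule.span A T := by rw [hT]; trivial
  induction hm using Submodule.span_induction with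
  | mem x hx => exact Algebra.subset_adjoin ⟨⟨x, hx⟩, rfl⟩
  | zero => rw [map_zero]; exact Subalgebra.zero_mem _
  | add x y _ _ hx hy => rw [map_add]; exact Subalgebra.add_mem _ hx hy
  | smul a x _ hx => rw [map_smul]; exact Subalgebra.smul_mem _ hx a

include hsym in
/-- Uniqueness part of the universal property of `Proj (Sym M)`; the isomorphism only has to be
compatible with the sections coming from a spanning set of `M`. -/
theorem eq_of_iso_pullback_of_span (T : Set M) (hT : Submodule.span A T = ⊤)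
    {X : Scheme.{u}} (r r' : X ⟶ Proj 𝒮)
    (hrr' : r ≫ pA 𝒮 = r' ≫ pA 𝒮)
    (τ : (Scheme.Modules.pullback r).obj (Twist.twist 𝒮 1) ≅
      (Scheme.Modules.pullback r').obj (Twist.twist 𝒮 1))
    (hτ : ∀ m ∈ T, τ.hom.app ⊤ (psec 𝒮 r (hι m)) = psec 𝒮 r' (hι m)) : r = r' := by
  have hproj : ∀ y : Proj 𝒮, ∃ t : T, y ∈ Proj.basicOpen 𝒮 (ι t.1) := fun y =>
    exists_notMem_of_adjoin_eq_top 𝒮 (fun t : T => ι t.1)
      (adjoin_image_eq_top_of_span ι hsym T hT) y
  have hproj' : ∀ y : Proj 𝒮, ∃ b : S, b ∈ 𝒮 1 ∧ y ∈ Proj.basicOpen 𝒮 b := fun y =>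
    let ⟨t, ht⟩ := hproj y
    ⟨ι t.1, hι t.1, ht⟩
  have hN : PicF.IsInvertible (Twist.twist 𝒮 1) := isInvertible_twist_one 𝒮 hproj'
  let P : X.Modules := (Scheme.Modules.pullback r).obj (Twist.twist 𝒮 1)
  let P' : X.Modules := (Scheme.Modules.pullback r').obj (Twist.twist 𝒮 1)
  have hP' : PicF.IsInvertible P' := PicLoc.isInvertible_pullback r' hN
  have hgen' : ProjUP.GeneratedBy P' (fun t : T => psec 𝒮 r' (hι t.1)) := by
    refine generatedBy_pullSec r' (Twist.twist 𝒮 1) (fun t : T => gs 𝒮 (hι t.1)) ?_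
    intro U t y hy
    obtain ⟨m, hm⟩ := hproj y
    obtain ⟨c, hc⟩ := (isBasisOn_gs 𝒮 (hι m.1) (U ⊓ Proj.basicOpen 𝒮 (ι m.1)) inf_le_right).2
      (mres (Twist.twist 𝒮 1) inf_le_left t)
    refine ⟨U ⊓ Proj.basicOpen 𝒮 (ι m.1), inf_le_left, m, c, ⟨hy, hm⟩, ?_⟩
    rw [← hc]
    change c • mres (Twist.twist 𝒮 1) inf_le_right
      (mres (Twist.twist 𝒮 1) le_top (gs 𝒮 (hι m.1))) = _
    rw [mres_mres]
  have hcover : ∀ x : X, ∃ W : X.Opens, x ∈ W ∧ W.ι ≫ r = W.ι ≫ r' := by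
    intro x
    obtain ⟨m, W, hxW, hbW'⟩ :=
      exists_basis_nhd P' hP' (fun t : T => psec 𝒮 r' (hι t.1)) hgen' x
    refine ⟨W, hxW, ?_⟩
    have hτW : ∀ m₀ ∈ T, τ.hom.app W (mres P (le_top : W ≤ ⊤) (psec 𝒮 r (hι m₀))) =
        mres P' (le_top : W ≤ ⊤) (psec 𝒮 r' (hι m₀)) := by
      intro m₀ hm₀
      rw [← app_res, hτ m₀ hm₀]
    have hbW : IsBasisOn P W (mres P (le_top : W ≤ ⊤) (psec 𝒮 r (hι m.1))) := by
      refine IsBasisOn.of_iso τ ?_
      rw [hτW m.1 m.2]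
      exact hbW'
    have hW := le_preimage_of_isBasisOn 𝒮 r (hι m.1) W hbW hproj'
    have hW' := le_preimage_of_isBasisOn 𝒮 r' (hι m.1) W hbW' hproj'
    rw [ι_comp_eq_localMap 𝒮 r (hι m.1) W hW, ι_comp_eq_localMap 𝒮 r' (hι m.1) W hW']
    refine localMap_congr 𝒮 W (hι m.1) one_pos ?_ _ _
    let _ : Algebra A Γ(X, W) := (resGlobal (r ≫ pA 𝒮) W).toAlgebra
    let Φ : S →ₐ[A] Γ(X, W) :=
      { toRingHom := chartHom 𝒮 r (hι m.1) W hW
        commutes' := chartHom_algebraMap 𝒮 r (hι m.1) W hW }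
    let Φ' : S →ₐ[A] Γ(X, W) :=
      { toRingHom := chartHom 𝒮 r' (hι m.1) W hW'
        commutes' := fun a => by
          change chartHom 𝒮 r' (hι m.1) W hW' (algebraMap A S a) = resGlobal (r ≫ pA 𝒮) W a
          rw [hrr']
          exact chartHom_algebraMap 𝒮 r' (hι m.1) W hW' a }
    have hΦ : Φ = Φ' := by
      apply hsym.algHom_ext
      refine LinearMap.ext_on hT ?_
      intro m₀ hm₀
      change chartHom 𝒮 r (hι m.1) W hW (ι m₀) = chartHom 𝒮 r' (hι m.1) W hW' (ι m₀)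
      apply (hbW' W le_rfl).1
      change chartHom 𝒮 r (hι m.1) W hW (ι m₀) •
          mres P' le_rfl (mres P' (le_top : W ≤ ⊤) (psec 𝒮 r' (hι m.1))) =
        chartHom 𝒮 r' (hι m.1) W hW' (ι m₀) •
          mres P' le_rfl (mres P' (le_top : W ≤ ⊤) (psec 𝒮 r' (hι m.1)))
      rw [mres_self, chartHom_smul_psec 𝒮 r' (hι m.1) W hW' (hι m₀), ← hτW m₀ hm₀,
        ← chartHom_smul_psec 𝒮 r (hι m.1) W hW (hι m₀), Scheme.Modules.Hom.app_smul,
        hτW m.1 m.2]
    exact congrArg (fun Ψ : S →ₐ[A] Γ(X, W) => Ψ.toRingHom) hΦ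
  choose W hxW hWeq using hcover
  exact hom_ext_of_cover W (fun x => ⟨x, hxW x⟩) r r' hWeq

end Groth.Agent.H18.PUP
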