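import Groth.Agent.H18.GammaStarEval
import Mathlib.Topology.Sheaves.SheafCondition.Sites

/-!
Modules with local bases (helper18): morphisms out of a module which is locally free of rank one,
with prescribed images of the local generators.
-/

set_option autoImplicit false
universe u

open CategoryTheory CategoryTheory.Limits AlgebraicGeometry TopologicalSpace Opposite

namespace Groth.Agent.H18.PUP

variable {Y : Scheme.{u}}

/-- restriction of functions -/
noncomputable abbrev rres (Y : Scheme.{u}) {W W' : Y.Opens} (h : W' ≤ W) : Γ(Y, W) ⟶ Γ(Y, W') :=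
  Y.presheaf.map (homOfLE h).op

theorem rres_rres {W W' W'' : Y.Opens} (h : W' ≤ W) (h' : W'' ≤ W') (a : Γ(Y, W)) :
    rres Y h' (rres Y h a) = rres Y (h'.trans h) a := by
  simp only [rres, ← ConcreteCategory.comp_apply, ← Functor.map_comp]
  rfl

theorem rres_self {W : Y.Opens} (h : W ≤ W) (a : Γ(Y, W)) : rres Y h a = a := by
  have : (homOfLE h).op = 𝟙 _ := rfl
  simp only [rres, this, CategoryTheory.Functor.map_id]
  rfl

/-- the section `t` of `N` over `W` is a basis of `N` over `W` -/
def IsBasisOn (N : Y.Modules) (W : Y.Opens) (t : Γ(N, W)) : Prop :=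
  ∀ (V : Y.Opens) (hV : V ≤ W), Function.Bijective (fun r : Γ(Y, V) => r • mres N hV t)

namespace IsBasisOn

variable {N : Y.Modules} {W : Y.Opens} {t : Γ(N, W)} (ht : IsBasisOn N W t)

/-- the coordinate of a section with respect to a basis -/
noncomputable def coord {V : Y.Opens} (hV : V ≤ W) (s : Γ(N, V)) : Γ(Y, V) :=
  ((ht V hV).2 s).choose

theorem coord_smul {V : Y.Opens} (hV : V ≤ W) (s : Γ(N, V)) :
    ht.coord hV s • mres N hV t = s :=
  ((ht V hV).2 s).choose_spec

theorem coord_unique {V : Y.Opens} (hV : V ≤ W) (s : Γ(N, V)) (r : Γ(Y, V))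
    (h : r • mres N hV t = s) : r = ht.coord hV s :=
  (ht V hV).1 (h.trans (ht.coord_smul hV s).symm)

theorem coord_res {V V' : Y.Opens} (hV : V ≤ W) (h : V' ≤ V) (s : Γ(N, V)) :
    ht.coord (h.trans hV) (mres N h s) = rres Y h (ht.coord hV s) := by
  symm
  apply ht.coord_unique
  have h1 := congrArg (mres N h) (ht.coord_smul hV s)
  rw [mres_smul, mres_mres] at h1
  exact h1

include ht in
theorem mono {W' : Y.Opens} (h : W' ≤ W) : IsBasisOn N W' (mres N h t) := by
  intro V hV
  have h1 := ht V (hV.trans h)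
  have h2 : (fun r : Γ(Y, V) => r • mres N hV (mres N h t)) =
      fun r : Γ(Y, V) => r • mres N (hV.trans h) t := by
    funext r
    rw [mres_mres]
  rw [h2]
  exact h1

end IsBasisOn

section hom

variable {N G : Y.Modules} {I : Type*} (W : I → Y.Opens) (hW : ∀ y : Y, ∃ i, y ∈ W i)
  (t : ∀ i, Γ(N, W i)) (ht : ∀ i, IsBasisOn N (W i) (t i))

/-- the basis of opens contained in a member of the cover -/
abbrev BIdx : Type _ := Σ i : I, {V : Y.Opens // V ≤ W i}

/-- the open of an index -/
abbrev B (b : BIdx W) : Y.Opens := b.2.1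

include hW in
theorem isBasis_B : Opens.IsBasis (Set.range (B W)) := by
  rw [Opens.isBasis_iff_nbhd]
  intro V x hx
  obtain ⟨i, hi⟩ := hW x
  exact ⟨V ⊓ W i, ⟨⟨i, V ⊓ W i, inf_le_right⟩, rfl⟩, ⟨hx, hi⟩, inf_le_left⟩

include hW ht in
/-- two morphisms which agree on the local generators are equal -/
theorem hom_ext_of_localBasis (φ ψ : N ⟶ G)
    (h : ∀ i, φ.app (W i) (t i) = ψ.app (W i) (t i)) : φ = ψ := by
  have key : ∀ (V : Y.Opens) (s : Γ(N, V)), φ.app V s = ψ.app V s := by
    intro V s
    refine modules_eq_of_locally_eq G _ _ fun x hx => ?_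
    obtain ⟨i, hi⟩ := hW x
    refine ⟨V ⊓ W i, inf_le_left, ⟨hx, hi⟩, ?_⟩
    have hs := (ht i).coord_smul (inf_le_right : V ⊓ W i ≤ W i) (mres N inf_le_left s)
    have e1 : mres G (inf_le_left : V ⊓ W i ≤ V) (φ.app V s) =
        φ.app (V ⊓ W i) (mres N inf_le_left s) :=
      (ConcreteCategory.congr_hom (φ.mapPresheaf.naturality (homOfLE (inf_le_left : V ⊓ W i ≤ V)).op) s).symm
    have e2 : mres G (inf_le_left : V ⊓ W i ≤ V) (ψ.app V s) =
        ψ.app (V ⊓ W i) (mres N inf_le_left s) :=
      (ConcreteCategory.congr_hom (ψ.mapPresheaf.naturality (homOfLE (inf_le_left : V ⊓ W i ≤ V)).op) s).symm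
    have e3 : mres G (inf_le_right : V ⊓ W i ≤ W i) (φ.app (W i) (t i)) =
        φ.app (V ⊓ W i) (mres N inf_le_right (t i)) :=
      (ConcreteCategory.congr_hom (φ.mapPresheaf.naturality (homOfLE (inf_le_right : V ⊓ W i ≤ W i)).op)
        (t i)).symm
    have e4 : mres G (inf_le_right : V ⊓ W i ≤ W i) (ψ.app (W i) (t i)) =
        ψ.app (V ⊓ W i) (mres N inf_le_right (t i)) :=
      (ConcreteCategory.congr_hom (ψ.mapPresheaf.naturality (homOfLE (inf_le_right : V ⊓ W i ≤ W i)).op)
        (t i)).symm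
    rw [e1, e2, ← hs, Scheme.Modules.Hom.app_smul, Scheme.Modules.Hom.app_smul, ← e3, ← e4, h i]
  refine Scheme.Modules.hom_ext _ _ fun V => ?_
  ext s
  exact key V s

section exist

variable (γ : ∀ i, Γ(G, W i))

/-- the local definition of the morphism determined by the images `γ i` of the generators -/
noncomputable def homB (b : BIdx W) (s : Γ(N, B W b)) : Γ(G, B W b) :=
  (ht b.1).coord b.2.2 s • mres G b.2.2 (γ b.1)

theorem homB_add (b : BIdx W) (s s' : Γ(N, B W b)) :
    homB W t ht γ b (s + s') = homB W t ht γ b s + homB W t ht γ b s' := by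
  obtain ⟨i, V, hVi⟩ := b
  change (ht i).coord hVi (s + s') • mres G hVi (γ i) =
    (ht i).coord hVi s • mres G hVi (γ i) + (ht i).coord hVi s' • mres G hVi (γ i)
  rw [← add_smul]
  congr 1
  symm
  apply (ht i).coord_unique
  rw [add_smul, (ht i).coord_smul, (ht i).coord_smul]

theorem homB_smul (b : BIdx W) (r : Γ(Y, B W b)) (s : Γ(N, B W b)) :
    homB W t ht γ b (r • s) = r • homB W t ht γ b s := by
  obtain ⟨i, V, hVi⟩ := b
  change (ht i).coord hVi (r • s) • mres G hVi (γ i) =
    r • (ht i).coord hVi s • mres G hVi (γ i)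
  rw [← mul_smul]
  congr 1
  symm
  apply (ht i).coord_unique
  rw [mul_smul, (ht i).coord_smul]

variable (hγ : ∀ i j (c : Γ(Y, W i ⊓ W j)),
    mres N inf_le_right (t j) = c • mres N inf_le_left (t i) →
      mres G inf_le_right (γ j) = c • mres G inf_le_left (γ i))

include hγ in
theorem homB_res (b b' : BIdx W) (h : B W b' ≤ B W b) (s : Γ(N, B W b)) :
    homB W t ht γ b' (mres N h s) = mres G h (homB W t ht γ b s) := by
  obtain ⟨i, V, hVi⟩ := b
  obtain ⟨j, V', hVj⟩ := b'
  change V' ≤ V at h
  change Γ(N, V) at s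
  change (ht j).coord hVj (mres N h s) • mres G hVj (γ j) =
    mres G h ((ht i).coord hVi s • mres G hVi (γ i))
  have hV' : V' ≤ W i ⊓ W j := le_inf (h.trans hVi) hVj
  -- the transition function
  let c0 : Γ(Y, W i ⊓ W j) := (ht i).coord inf_le_left (mres N inf_le_right (t j))
  have hc0 : c0 • mres N inf_le_left (t i) = mres N inf_le_right (t j) :=
    (ht i).coord_smul inf_le_left _
  have hg0 := hγ i j c0 hc0.symm
  let c : Γ(Y, V') := rres Y hV' c0
  have hc : mres N hVj (t j) = c • mres N (h.trans hVi) (t i) := by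
    have := congrArg (mres N hV') hc0
    rw [mres_smul, mres_mres, mres_mres] at this
    exact this.symm
  have hg : mres G hVj (γ j) = c • mres G (h.trans hVi) (γ i) := by
    have := congrArg (mres G hV') hg0
    rw [mres_smul, mres_mres, mres_mres] at this
    exact this
  -- coordinates
  have ha' := (ht j).coord_smul hVj (mres N h s)
  have ha := (ht i).coord_res hVi h s
  have ha2 := (ht i).coord_smul (h.trans hVi) (mres N h s)
  have hmul : (ht j).coord hVj (mres N h s) * c = rres Y h ((ht i).coord hVi s) := by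
    rw [← ha]
    apply (ht i).coord_unique
    rw [mul_smul, ← hc]
    exact ha'
  rw [mres_smul, mres_mres, hg, ← mul_smul, hmul]

/-- the morphism on the basis, as a natural transformation -/
noncomputable def homNat :
    (inducedFunctor (B W)).op ⋙ N.presheaf ⟶ (inducedFunctor (B W)).op ⋙ G.presheaf where
  app b := AddCommGrpCat.ofHom
    { toFun := homB W t ht γ b.unop
      map_zero' := by
        have := homB_add W t ht γ b.unop 0 0
        rw [add_zero] at this
        exact left_eq_add.mp this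
      map_add' := homB_add W t ht γ b.unop }
  naturality := by
    intro b b' φ
    ext s
    exact homB_res W t ht γ hγ b.unop b'.unop (leOfHom φ.unop.hom) s

/-- the morphism on underlying abelian presheaves -/
noncomputable def homPre : N.presheaf ⟶ G.presheaf :=
  TopCat.Sheaf.restrictHomEquivHom N.presheaf
    (⟨G.presheaf, G.isSheaf⟩ : TopCat.Sheaf AddCommGrpCat Y.toTopCat)
    (isBasis_B W hW) (homNat W t ht γ hγ)

theorem homPre_app_B (b : BIdx W) (s : Γ(N, B W b)) :
    (homPre W hW t ht γ hγ).app (op (B W b)) s = homB W t ht γ b s := by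
  have := TopCat.Sheaf.extend_hom_app N.presheaf
    (⟨G.presheaf, G.isSheaf⟩ : TopCat.Sheaf AddCommGrpCat Y.toTopCat)
    (isBasis_B W hW) (homNat W t ht γ hγ) b
  exact ConcreteCategory.congr_hom this s

theorem homPre_res {V V' : Y.Opens} (h : V' ≤ V) (s : Γ(N, V)) :
    (homPre W hW t ht γ hγ).app (op V') (mres N h s) =
      mres G h ((homPre W hW t ht γ hγ).app (op V) s) :=
  ConcreteCategory.congr_hom ((homPre W hW t ht γ hγ).naturality (homOfLE h).op) s

theorem homPre_smul (V : Y.Opens) (r : Γ(Y, V)) (s : Γ(N, V)) :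
    (homPre W hW t ht γ hγ).app (op V) (r • s) = r • (homPre W hW t ht γ hγ).app (op V) s := by
  refine modules_eq_of_locally_eq G _ _ (fun x hx => ?_)
  obtain ⟨i, hi⟩ := hW x
  let b : BIdx W := ⟨i, V ⊓ W i, inf_le_right⟩
  refine ⟨V ⊓ W i, inf_le_left, ⟨hx, hi⟩, ?_⟩
  have hb : B W b = V ⊓ W i := rfl
  rw [← homPre_res, mres_smul, mres_smul, ← homPre_res]
  exact (homPre_app_B W hW t ht γ hγ b _).trans ((homB_smul W t ht γ b _ _).trans
    (congrArg _ (homPre_app_B W hW t ht γ hγ b _).symm))

/-- the morphism `N ⟶ G` sending the local generators `t i` to `γ i` -/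
noncomputable def homOfLocalBasis : N ⟶ G :=
  ⟨PresheafOfModules.homMk (homPre W hW t ht γ hγ)
    (fun V r s => homPre_smul W hW t ht γ hγ V.unop r s)⟩

theorem homOfLocalBasis_app (i : I) :
    (homOfLocalBasis W hW t ht γ hγ).app (W i) (t i) = γ i := by
  let b : BIdx W := ⟨i, W i, le_rfl⟩
  have h1 : (homOfLocalBasis W hW t ht γ hγ).app (W i) (t i) = homB W t ht γ b (t i) :=
    homPre_app_B W hW t ht γ hγ b (t i)
  rw [h1]
  change (ht i).coord le_rfl (t i) • mres G le_rfl (γ i) = γ i
  have h2 : (ht i).coord le_rfl (t i) = 1 := by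
    symm
    apply (ht i).coord_unique
    rw [one_smul, mres_self]
  rw [h2, one_smul, mres_self]

end exist

end hom

end Groth.Agent.H18.PUP
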