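import Groth.Agent.H18.PUP.Map
import Groth.Agent.H18.PUP.LocalBasis
import Groth.Agent.H18.TwistTriv

set_option autoImplicit false
universe u

open AlgebraicGeometry CategoryTheory CategoryTheory.Limits HomogeneousLocalization TopologicalSpace Opposite

namespace Groth.Agent.H18.PUP

variable {A S : Type u} [CommRing A] [CommRing S] [Algebra A S]
variable (𝒮 : ℕ → Submodule A S) [GradedAlgebra 𝒮]
variable {X : Scheme.{u}} (q : X ⟶ Spec (CommRingCat.of A)) (L : X.Modules)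
variable {J : Type*} (b : J → S) (v : J → Γ(L, (⊤ : X.Opens)))

/-- a chart: an open `W` on which the section `v j` is a basis of `L`, with the ring homomorphism
`S → Γ(X, W)` sending `b j'` to the coordinate `v j' / v j` -/
structure Chart where
  W : X.Opens
  j : J
  F : S →+* Γ(X, W)
  basis : IsBasisOn L W (mres L (le_top : W ≤ ⊤) (v j))
  F_b : ∀ j', F (b j') • mres L (le_top : W ≤ ⊤) (v j) = mres L (le_top : W ≤ ⊤) (v j')
  F_alg : ∀ a : A, F (algebraMap A S a) =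
    X.presheaf.map (homOfLE (le_top : W ≤ ⊤)).op (ProjUP.toGlobal q a)

namespace Chart

variable {𝒮 q L b v}
variable (c : Chart q L b v)

theorem F_self : c.F (b c.j) = 1 := by
  have h1 := c.F_b c.j
  have h2 : (1 : Γ(X, c.W)) • mres L (le_top : c.W ≤ ⊤) (v c.j) = mres L le_top (v c.j) :=
    one_smul _ _
  have h3 := (c.basis c.W le_rfl).1
  apply h3
  change c.F (b c.j) • mres L le_rfl (mres L (le_top : c.W ≤ ⊤) (v c.j)) =
    (1 : Γ(X, c.W)) • mres L le_rfl (mres L (le_top : c.W ≤ ⊤) (v c.j))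
  rw [mres_self, h1, h2]

theorem isUnit_F : IsUnit (c.F (b c.j)) := by
  rw [c.F_self]
  exact isUnit_one

variable (𝒮) (hb : ∀ j, b j ∈ 𝒮 1)

/-- the morphism to `Proj` defined on a chart -/
noncomputable def map : (c.W : Scheme.{u}) ⟶ Proj 𝒮 :=
  localMap 𝒮 c.W (hb c.j) one_pos c.F c.isUnit_F

end Chart


section glue

variable {𝒮 q L b v}
variable {I : Type*} (c : I → Chart q L b v) (hb : ∀ j, b j ∈ 𝒮 1)
  (hcov : ∀ x : X, ∃ i, x ∈ (c i).W)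
  (hcompat : ∀ i i', ∃ u : Γ(X, (c i).W ⊓ (c i').W), ∀ (k : ℕ) (a : S), a ∈ 𝒮 k →
     X.presheaf.map (homOfLE (inf_le_right : (c i).W ⊓ (c i').W ≤ (c i').W)).op ((c i').F a) =
       u ^ k * X.presheaf.map (homOfLE (inf_le_left : (c i).W ⊓ (c i').W ≤ (c i).W)).op
        ((c i).F a))

include hcov in
theorem isOpenCover_charts : IsOpenCover (fun i => (c i).W) := by
  rw [IsOpenCover, eq_top_iff]
  intro x _
  obtain ⟨i, hi⟩ := hcov x
  exact Opens.mem_iSup.mpr ⟨i, hi⟩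

include hcov hcompat in
theorem exists_glue : ∃ r : X ⟶ Proj 𝒮, ∀ i, (c i).W.ι ≫ r = (c i).map 𝒮 hb := by
  obtain ⟨r, hr, -⟩ := existsUnique_glue_opens (fun i => (c i).W) (isOpenCover_charts c hcov)
    (fun i => (c i).map 𝒮 hb) (by
      intro i i'
      obtain ⟨u, hu⟩ := hcompat i i'
      unfold Chart.map
      rw [homOfLE_localMap, homOfLE_localMap]
      unfold localMap
      congr 1
      exact SpecMap_awayLift_awayι_eq 𝒮 (hb _) one_pos (hb _) one_pos _ _ _ _ u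
        (fun k a ha => hu k a ha))
  exact ⟨r, hr⟩

include hcov in
theorem glue_comp_toSpecZero (r : X ⟶ Proj 𝒮) (hr : ∀ i, (c i).W.ι ≫ r = (c i).map 𝒮 hb) :
    r ≫ Proj.toSpecZero 𝒮 ≫ Spec.map (CommRingCat.ofHom (algebraMap A (𝒮 0))) = q := by
  obtain ⟨π, -, huniq⟩ := existsUnique_glue_opens (fun i => (c i).W) (isOpenCover_charts c hcov)
    (fun i => (c i).W.ι ≫ q) (by
      intro i i'
      rw [Scheme.homOfLE_ι_assoc, Scheme.homOfLE_ι_assoc])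
  rw [huniq (r ≫ Proj.toSpecZero 𝒮 ≫ Spec.map (CommRingCat.ofHom (algebraMap A (𝒮 0))))
    (fun i => ?_), ← huniq q (fun i => rfl)]
  rw [← Category.assoc, hr i]
  exact localMap_comp_toSpecZero 𝒮 (c i).W (hb _) one_pos (c i).F (c i).isUnit_F q (c i).F_alg

end glue


section sections

variable {𝒮 q L b v}
variable (c : Chart q L b v) (hb : ∀ j, b j ∈ 𝒮 1) (r : X ⟶ Proj 𝒮)
  (hr : c.W.ι ≫ r = c.map 𝒮 hb)

include hr in
theorem Chart.le_preimage : c.W ≤ r ⁻¹ᵁ Proj.basicOpen 𝒮 (b c.j) :=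
  le_preimage_basicOpen 𝒮 c.W (hb c.j) one_pos c.F c.isUnit_F r hr

theorem Chart.appLE_fracO {a : S} (ha : a ∈ 𝒮 1) :
    (r.appLE (Proj.basicOpen 𝒮 (b c.j)) c.W (c.le_preimage hb r hr)).hom
      (fracO 𝒮 ha (hb c.j) (Proj.basicOpen 𝒮 (b c.j)) (fun _ hx => hx)) = c.F a := by
  have h1 := appLE_awayToSection 𝒮 c.W (hb c.j) one_pos c.F c.isUnit_F r hr
    (Away.mk 𝒮 (hb c.j) 1 a ha)
  rw [awayToSection_eq_fracO] at h1
  have h2 := awayLift_mk_mul 𝒮 (hb c.j) c.F c.isUnit_F 1 a ha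
  rw [c.F_self, one_pow, mul_one] at h2
  rw [← h2, ← h1]
  congr 1
  exact fracO_eq_of_mul_eq 𝒮 _ _ _ _ _ _ _ (by rw [pow_one])

include hr in
theorem Chart.appLE_fracO_mul {a a' : S} (ha : a ∈ 𝒮 1) (ha' : a' ∈ 𝒮 1) (V : X.Opens)
    (hVW : V ≤ c.W) (hV : V ≤ r ⁻¹ᵁ Proj.basicOpen 𝒮 a') :
    (r.appLE (Proj.basicOpen 𝒮 a') V hV).hom
        (fracO 𝒮 ha ha' (Proj.basicOpen 𝒮 a') (fun _ hx => hx)) *
      X.presheaf.map (homOfLE hVW).op (c.F a') = X.presheaf.map (homOfLE hVW).op (c.F a) := by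
  have hWg := c.le_preimage hb r hr
  have hVU' : V ≤ r ⁻¹ᵁ (Proj.basicOpen 𝒮 a' ⊓ Proj.basicOpen 𝒮 (b c.j)) :=
    fun x hx => ⟨hV hx, hWg (hVW hx)⟩
  have hfr : fracO 𝒮 ha ha' (Proj.basicOpen 𝒮 a' ⊓ Proj.basicOpen 𝒮 (b c.j)) (fun _ hx => hx.1) *
      fracO 𝒮 ha' (hb c.j) (Proj.basicOpen 𝒮 a' ⊓ Proj.basicOpen 𝒮 (b c.j)) (fun _ hx => hx.2) =
      fracO 𝒮 ha (hb c.j) (Proj.basicOpen 𝒮 a' ⊓ Proj.basicOpen 𝒮 (b c.j)) (fun _ hx => hx.2) := by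
    rw [fracO_mul]
    exact fracO_eq_of_mul_eq 𝒮 _ _ _ _ _ _ _ (by ring)
  have h1 := congrArg (r.appLE (Proj.basicOpen 𝒮 a' ⊓ Proj.basicOpen 𝒮 (b c.j)) V hVU').hom hfr
  rw [map_mul] at h1
  have P1 : ∀ x : Γ(Proj 𝒮, Proj.basicOpen 𝒮 a'),
      (r.appLE (Proj.basicOpen 𝒮 a' ⊓ Proj.basicOpen 𝒮 (b c.j)) V hVU').hom
        ((Proj 𝒮).presheaf.map (homOfLE (inf_le_left :
          Proj.basicOpen 𝒮 a' ⊓ Proj.basicOpen 𝒮 (b c.j) ≤ Proj.basicOpen 𝒮 a')).op x) =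
      (r.appLE (Proj.basicOpen 𝒮 a') V hV).hom x := fun x =>
    ConcreteCategory.congr_hom (r.map_appLE hVU' (homOfLE (inf_le_left :
      Proj.basicOpen 𝒮 a' ⊓ Proj.basicOpen 𝒮 (b c.j) ≤ Proj.basicOpen 𝒮 a')).op) x
  have P2 : ∀ y : Γ(Proj 𝒮, Proj.basicOpen 𝒮 (b c.j)),
      (r.appLE (Proj.basicOpen 𝒮 a' ⊓ Proj.basicOpen 𝒮 (b c.j)) V hVU').hom
        ((Proj 𝒮).presheaf.map (homOfLE (inf_le_right :
          Proj.basicOpen 𝒮 a' ⊓ Proj.basicOpen 𝒮 (b c.j) ≤ Proj.basicOpen 𝒮 (b c.j))).op y) =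
      X.presheaf.map (homOfLE hVW).op
        ((r.appLE (Proj.basicOpen 𝒮 (b c.j)) c.W hWg).hom y) := fun y =>
    (ConcreteCategory.congr_hom (r.map_appLE hVU' (homOfLE (inf_le_right :
      Proj.basicOpen 𝒮 a' ⊓ Proj.basicOpen 𝒮 (b c.j) ≤ Proj.basicOpen 𝒮 (b c.j))).op) y).trans
    (ConcreteCategory.congr_hom (r.appLE_map hWg (homOfLE hVW).op) y).symm
  have Q1 := P1 (fracO 𝒮 ha ha' (Proj.basicOpen 𝒮 a') (fun _ hx => hx))
  have Q2 := P2 (fracO 𝒮 ha' (hb c.j) (Proj.basicOpen 𝒮 (b c.j)) (fun _ hx => hx))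
  have Q3 := P2 (fracO 𝒮 ha (hb c.j) (Proj.basicOpen 𝒮 (b c.j)) (fun _ hx => hx))
  rw [c.appLE_fracO hb r hr] at Q2 Q3
  rw [← Q1, ← Q2, ← Q3]
  exact h1

end sections

end Groth.Agent.H18.PUP
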