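import Groth.Agent.H18.PUP.LocalBasis
import Groth.Agent.H18.TwistAmple2

set_option autoImplicit false
universe u

open AlgebraicGeometry CategoryTheory CategoryTheory.Limits HomogeneousLocalization TopologicalSpace Opposite

namespace Groth.Agent.H18.PUP

variable {A S : Type u} [CommRing A] [CommRing S] [Algebra A S]
variable (𝒮 : ℕ → Submodule A S) [GradedAlgebra 𝒮]

/-- the global section `a / 1` of `O(1)` for `a` of degree one -/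
noncomputable def gs {a : S} (ha : a ∈ 𝒮 1) : Γ(Twist.twist 𝒮 1, (⊤ : (Proj 𝒮).Opens)) :=
  Twist.globalOf 𝒮 ⟨a, ha⟩

theorem he01 : ((1 : ℕ) : ℤ) = ((0 : ℕ) : ℤ) + (1 : ℤ) := by simp

theorem mres_gs {a : S} (ha : a ∈ 𝒮 1) (V : (Proj 𝒮).Opens) :
    mres (Twist.twist 𝒮 1) (le_top : V ≤ ⊤) (gs 𝒮 ha) =
      fracTw 𝒮 ha (SetLike.GradedOne.one_mem : (1 : S) ∈ 𝒮 0) he01 V
        (fun x _ => GrMod.one_nin x) := rfl

theorem fracO_smul_gs {a g : S} (ha : a ∈ 𝒮 1) (hg : g ∈ 𝒮 1) (V : (Proj 𝒮).Opens)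
    (hV : ∀ x : ProjectiveSpectrum 𝒮, x ∈ V → g ∉ x.asHomogeneousIdeal) :
    fracO 𝒮 ha hg V hV • mres (Twist.twist 𝒮 1) (le_top : V ≤ ⊤) (gs 𝒮 hg) =
      mres (Twist.twist 𝒮 1) (le_top : V ≤ ⊤) (gs 𝒮 ha) := by
  rw [mres_gs, mres_gs]
  refine twist_sect_ext 𝒮 1 V _ _ (fun z => ?_)
  rw [twist_smul_val, fracTw_val, fracTw_val, fracO_val, Localization.mk_mul,
    Localization.mk_eq_mk_iff, Localization.r_iff_exists]
  exact ⟨1, by simp only [OneMemClass.coe_one, one_mul, Submonoid.coe_mul, mul_one]; ring⟩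

theorem isBasisOn_gs {g : S} (hg : g ∈ 𝒮 1) :
    IsBasisOn (Twist.twist 𝒮 1) (Proj.basicOpen 𝒮 g)
      (mres (Twist.twist 𝒮 1) (le_top : Proj.basicOpen 𝒮 g ≤ ⊤) (gs 𝒮 hg)) := by
  intro V hV
  have h2 : (fun r : Γ(Proj 𝒮, V) => r • mres (Twist.twist 𝒮 1) hV
      (mres (Twist.twist 𝒮 1) (le_top : Proj.basicOpen 𝒮 g ≤ ⊤) (gs 𝒮 hg))) =
      fun r : Γ(Proj 𝒮, V) => r • fracTw 𝒮 hg (SetLike.GradedOne.one_mem : (1 : S) ∈ 𝒮 0) he01 V
        (fun x _ => GrMod.one_nin x) := by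
    funext r
    rw [mres_mres, mres_gs]
  rw [h2]
  exact ⟨smul_fracTw_injective 𝒮 hg _ he01 V (fun x hx => hV hx) (fun x _ => GrMod.one_nin x),
    smul_fracTw_surjective 𝒮 hg _ he01 V (fun x hx => hV hx) (fun x _ => GrMod.one_nin x)⟩

end Groth.Agent.H18.PUP
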