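import Groth.Agent.H18.PUP.Core
import Groth.Agent.H18.PUP.TwistOne

set_option autoImplicit false
universe u

open AlgebraicGeometry CategoryTheory CategoryTheory.Limits HomogeneousLocalization TopologicalSpace Opposite

namespace Groth.Agent.H18.PUP

section push

variable {X Y : Scheme.{u}} (r : X ⟶ Y) (L : X.Modules) (N : Y.Modules)

theorem pushforward_smul {U : Y.Opens} (c : Γ(Y, U)) (s : Γ(L, r ⁻¹ᵁ U)) :
    (HSMul.hSMul (β := Γ((Scheme.Modules.pushforward r).obj L, U)) c s :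
      Γ((Scheme.Modules.pushforward r).obj L, U)) =
      ((r.app U).hom c • s : Γ(L, r ⁻¹ᵁ U)) := rfl

theorem preimage_mono' {U U' : Y.Opens} (h : U' ≤ U) : r ⁻¹ᵁ U' ≤ r ⁻¹ᵁ U := fun _ hx => h hx

theorem pushforward_mres {U U' : Y.Opens} (h : U' ≤ U) (s : Γ(L, r ⁻¹ᵁ U)) :
    mres ((Scheme.Modules.pushforward r).obj L) h s = mres L (preimage_mono' r h) s := rfl

theorem pullSec_eq (s : Γ(N, (⊤ : Y.Opens))) :
    ProjUP.pullSec r N s =
      (((Scheme.Modules.pullbackPushforwardAdjunction r).unit.app N).app ⊤) s := rfl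

variable {r L N}

theorem push_app_res (φ : N ⟶ (Scheme.Modules.pushforward r).obj L) {U U' : Y.Opens} (h : U' ≤ U)
    (s : Γ(N, U)) :
    mres L (preimage_mono' r h) (φ.app U s) = φ.app U' (mres N h s) :=
  (ConcreteCategory.congr_hom (φ.mapPresheaf.naturality (homOfLE h).op) s).symm

theorem push_app_smul (φ : N ⟶ (Scheme.Modules.pushforward r).obj L) {U : Y.Opens} (c : Γ(Y, U))
    (s : Γ(N, U)) :
    φ.app U (c • s) = (HSMul.hSMul (β := Γ(L, r ⁻¹ᵁ U)) ((r.app U).hom c) (φ.app U s) : Γ(L, r ⁻¹ᵁ U)) :=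
  Scheme.Modules.Hom.app_smul φ c s

theorem app_res {M M' : X.Modules} (φ : M ⟶ M') {U U' : X.Opens} (h : U' ≤ U) (s : Γ(M, U)) :
    mres M' h (φ.app U s) = φ.app U' (mres M h s) :=
  (ConcreteCategory.congr_hom (φ.mapPresheaf.naturality (homOfLE h).op) s).symm

end push


section core

variable {A S : Type u} [CommRing A] [CommRing S] [Algebra A S]
variable {𝒮 : ℕ → Submodule A S} [GradedAlgebra 𝒮]
variable {X : Scheme.{u}} {q : X ⟶ Spec (CommRingCat.of A)} {L : X.Modules}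
variable {J : Type*} {b : J → S} {v : J → Γ(L, (⊤ : X.Opens))}
variable {I : Type*} (c : I → Chart q L b v) (hb : ∀ j, b j ∈ 𝒮 1)
  (hcov : ∀ x : X, ∃ i, x ∈ (c i).W)
  (hproj : ∀ y : Proj 𝒮, ∃ j, y ∈ Proj.basicOpen 𝒮 (b j))
  (r : X ⟶ Proj 𝒮) (hr : ∀ i, (c i).W.ι ≫ r = (c i).map 𝒮 hb)

include hcov hr in
theorem ratio (j j' : J) (V : X.Opens) (hV : V ≤ r ⁻¹ᵁ Proj.basicOpen 𝒮 (b j')) :
    mres L (le_top : V ≤ ⊤) (v j) =
      (r.appLE (Proj.basicOpen 𝒮 (b j')) V hV).hom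
        (fracO 𝒮 (hb j) (hb j') (Proj.basicOpen 𝒮 (b j')) (fun _ hx => hx)) •
        mres L (le_top : V ≤ ⊤) (v j') := by
  refine modules_eq_of_locally_eq L _ _ (fun x hx => ?_)
  obtain ⟨i, hi⟩ := hcov x
  refine ⟨V ⊓ (c i).W, inf_le_left, ⟨hx, hi⟩, ?_⟩
  have hmul := (c i).appLE_fracO_mul hb r (hr i) (hb j) (hb j') (V ⊓ (c i).W) inf_le_right
    (inf_le_left.trans hV)
  have e1 : ∀ j₀, mres L (inf_le_left : V ⊓ (c i).W ≤ V) (mres L (le_top : V ≤ ⊤) (v j₀)) =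
      X.presheaf.map (homOfLE (inf_le_right : V ⊓ (c i).W ≤ (c i).W)).op ((c i).F (b j₀)) •
        mres L (inf_le_right : V ⊓ (c i).W ≤ (c i).W)
          (mres L (le_top : (c i).W ≤ ⊤) (v (c i).j)) := by
    intro j₀
    rw [mres_mres, ← mres_smul, (c i).F_b, mres_mres]
  rw [e1, mres_smul, e1, ← mul_smul]
  congr 1
  rw [← hmul]
  congr 1
  exact (ConcreteCategory.congr_hom (r.appLE_map hV (homOfLE (inf_le_left : V ⊓ (c i).W ≤ V)).op) _).symm

/-- the images of the local generators of `O(1)` in the direct image of `L` -/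
noncomputable def gam (j : J) :
    Γ((Scheme.Modules.pushforward r).obj L, Proj.basicOpen 𝒮 (b j)) :=
  mres L (le_top : r ⁻¹ᵁ Proj.basicOpen 𝒮 (b j) ≤ ⊤) (v j)

include hcov hr in
theorem gam_compat (j j' : J)
    (cc : Γ(Proj 𝒮, Proj.basicOpen 𝒮 (b j) ⊓ Proj.basicOpen 𝒮 (b j')))
    (h : mres (Twist.twist 𝒮 1) (inf_le_right :
          Proj.basicOpen 𝒮 (b j) ⊓ Proj.basicOpen 𝒮 (b j') ≤ Proj.basicOpen 𝒮 (b j'))
        (mres (Twist.twist 𝒮 1) (le_top : Proj.basicOpen 𝒮 (b j') ≤ ⊤) (gs 𝒮 (hb j'))) =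
      cc • mres (Twist.twist 𝒮 1) (inf_le_left :
          Proj.basicOpen 𝒮 (b j) ⊓ Proj.basicOpen 𝒮 (b j') ≤ Proj.basicOpen 𝒮 (b j))
        (mres (Twist.twist 𝒮 1) (le_top : Proj.basicOpen 𝒮 (b j) ≤ ⊤) (gs 𝒮 (hb j)))) :
    mres ((Scheme.Modules.pushforward r).obj L) (inf_le_right :
          Proj.basicOpen 𝒮 (b j) ⊓ Proj.basicOpen 𝒮 (b j') ≤ Proj.basicOpen 𝒮 (b j'))
        (gam (L := L) (v := v) r j') =
      cc • mres ((Scheme.Modules.pushforward r).obj L) (inf_le_left :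
          Proj.basicOpen 𝒮 (b j) ⊓ Proj.basicOpen 𝒮 (b j') ≤ Proj.basicOpen 𝒮 (b j))
        (gam (L := L) (v := v) r j) := by
  have hc : cc = fracO 𝒮 (hb j') (hb j) (Proj.basicOpen 𝒮 (b j) ⊓ Proj.basicOpen 𝒮 (b j'))
      (fun _ hx => hx.1) := by
    apply (isBasisOn_gs 𝒮 (hb j) (Proj.basicOpen 𝒮 (b j) ⊓ Proj.basicOpen 𝒮 (b j')) inf_le_left).1
    change cc • mres (Twist.twist 𝒮 1) inf_le_left (mres (Twist.twist 𝒮 1) le_top (gs 𝒮 (hb j))) =
      fracO 𝒮 (hb j') (hb j) _ _ •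
        mres (Twist.twist 𝒮 1) inf_le_left (mres (Twist.twist 𝒮 1) le_top (gs 𝒮 (hb j)))
    rw [← h, mres_mres, mres_mres, fracO_smul_gs]
  subst hc
  rw [pushforward_smul, pushforward_mres, pushforward_mres]
  unfold gam
  rw [mres_mres, mres_mres]
  have h1 := ratio c hb hcov r hr j' j
    (r ⁻¹ᵁ (Proj.basicOpen 𝒮 (b j) ⊓ Proj.basicOpen 𝒮 (b j'))) (preimage_mono' r inf_le_left)
  rw [h1]
  congr 1
  rw [Scheme.Hom.app_eq_appLE]
  exact (ConcreteCategory.congr_hom (r.map_appLE (le_refl _)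
    (homOfLE (inf_le_left : Proj.basicOpen 𝒮 (b j) ⊓ Proj.basicOpen 𝒮 (b j') ≤
      Proj.basicOpen 𝒮 (b j))).op) _).symm

end core


section core2

variable {A S : Type u} [CommRing A] [CommRing S] [Algebra A S]
variable {𝒮 : ℕ → Submodule A S} [GradedAlgebra 𝒮]
variable {X : Scheme.{u}} {q : X ⟶ Spec (CommRingCat.of A)} {L : X.Modules}
variable {J : Type*} {b : J → S} {v : J → Γ(L, (⊤ : X.Opens))}
variable {I : Type*} (c : I → Chart q L b v) (hb : ∀ j, b j ∈ 𝒮 1)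
  (hcov : ∀ x : X, ∃ i, x ∈ (c i).W)
  (hproj : ∀ y : Proj 𝒮, ∃ j, y ∈ Proj.basicOpen 𝒮 (b j))
  (r : X ⟶ Proj 𝒮) (hr : ∀ i, (c i).W.ι ≫ r = (c i).map 𝒮 hb)

/-- the morphism `O(1) ⟶ r_* L` -/
noncomputable def tauFlat : Twist.twist 𝒮 1 ⟶ (Scheme.Modules.pushforward r).obj L :=
  homOfLocalBasis (fun j => Proj.basicOpen 𝒮 (b j)) hproj
    (fun j => mres (Twist.twist 𝒮 1) (le_top : Proj.basicOpen 𝒮 (b j) ≤ ⊤) (gs 𝒮 (hb j)))
    (fun j => isBasisOn_gs 𝒮 (hb j)) (fun j => gam (L := L) (v := v) r j)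
    (fun j j' cc h => gam_compat c hb hcov r hr j j' cc h)

theorem tauFlat_app (j : J) :
    (tauFlat c hb hcov hproj r hr).app (Proj.basicOpen 𝒮 (b j))
      (mres (Twist.twist 𝒮 1) (le_top : Proj.basicOpen 𝒮 (b j) ≤ ⊤) (gs 𝒮 (hb j))) =
      gam (L := L) (v := v) r j :=
  homOfLocalBasis_app (fun j => Proj.basicOpen 𝒮 (b j)) hproj
    (fun j => mres (Twist.twist 𝒮 1) (le_top : Proj.basicOpen 𝒮 (b j) ≤ ⊤) (gs 𝒮 (hb j)))
    (fun j => isBasisOn_gs 𝒮 (hb j)) (fun j => gam (L := L) (v := v) r j)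
    (fun j j' cc h => gam_compat c hb hcov r hr j j' cc h) j

theorem tauFlat_app_top (j : J) :
    (tauFlat c hb hcov hproj r hr).app ⊤ (gs 𝒮 (hb j)) = v j := by
  refine modules_eq_of_locally_eq L (W := ⊤) _ _ (fun x _ => ?_)
  obtain ⟨j', hj'⟩ := hproj (r.base x)
  refine ⟨r ⁻¹ᵁ Proj.basicOpen 𝒮 (b j'), le_top, hj', ?_⟩
  have h1 := push_app_res (tauFlat c hb hcov hproj r hr)
    (le_top : Proj.basicOpen 𝒮 (b j') ≤ ⊤) (gs 𝒮 (hb j))
  have h2 := fracO_smul_gs 𝒮 (hb j) (hb j') (Proj.basicOpen 𝒮 (b j')) (fun _ hx => hx)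
  rw [← h2, push_app_smul, tauFlat_app] at h1
  refine h1.trans ?_
  have h3 := ratio c hb hcov r hr j j' (r ⁻¹ᵁ Proj.basicOpen 𝒮 (b j')) (le_refl _)
  rw [h3, Scheme.Hom.app_eq_appLE]
  rfl

end core2


section core3

variable {A S : Type u} [CommRing A] [CommRing S] [Algebra A S]
variable {𝒮 : ℕ → Submodule A S} [GradedAlgebra 𝒮]
variable {X : Scheme.{u}} {q : X ⟶ Spec (CommRingCat.of A)} {L : X.Modules}
variable {J : Type*} {b : J → S} {v : J → Γ(L, (⊤ : X.Opens))}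
variable {I : Type*} (c : I → Chart q L b v) (hb : ∀ j, b j ∈ 𝒮 1)
  (hcov : ∀ x : X, ∃ i, x ∈ (c i).W)
  (hproj : ∀ y : Proj 𝒮, ∃ j, y ∈ Proj.basicOpen 𝒮 (b j))
  (r : X ⟶ Proj 𝒮) (hr : ∀ i, (c i).W.ι ≫ r = (c i).map 𝒮 hb)

/-- the morphism `r^* O(1) ⟶ L` -/
noncomputable def tau : (Scheme.Modules.pullback r).obj (Twist.twist 𝒮 1) ⟶ L :=
  ((Scheme.Modules.pullbackPushforwardAdjunction r).homEquiv (Twist.twist 𝒮 1) L).symm
    (tauFlat c hb hcov hproj r hr)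

theorem unit_comp_tau :
    (Scheme.Modules.pullbackPushforwardAdjunction r).unit.app (Twist.twist 𝒮 1) ≫
      (Scheme.Modules.pushforward r).map (tau c hb hcov hproj r hr) =
      tauFlat c hb hcov hproj r hr := by
  have h := (Scheme.Modules.pullbackPushforwardAdjunction r).homEquiv_unit
    (X := Twist.twist 𝒮 1) (Y := L) (f := tau c hb hcov hproj r hr)
  exact h.symm.trans (Equiv.apply_symm_apply _ _)

theorem tau_app_pullSec (s : Γ(Twist.twist 𝒮 1, (⊤ : (Proj 𝒮).Opens))) :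
    (tau c hb hcov hproj r hr).app ⊤ (ProjUP.pullSec r (Twist.twist 𝒮 1) s) =
      (tauFlat c hb hcov hproj r hr).app ⊤ s := by
  rw [← unit_comp_tau]
  rfl

/-- the pulled back sections -/
noncomputable def sig (j : J) :
    Γ((Scheme.Modules.pullback r).obj (Twist.twist 𝒮 1), (⊤ : X.Opens)) :=
  ProjUP.pullSec r (Twist.twist 𝒮 1) (gs 𝒮 (hb j))

include hr in
theorem sig_res (i : I) (j : J) :
    mres ((Scheme.Modules.pullback r).obj (Twist.twist 𝒮 1)) (le_top : (c i).W ≤ ⊤)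
        (sig hb r j) =
      (c i).F (b j) • mres ((Scheme.Modules.pullback r).obj (Twist.twist 𝒮 1))
        (le_top : (c i).W ≤ ⊤) (sig hb r (c i).j) := by
  have hWg := (c i).le_preimage hb r (hr i)
  let η : Twist.twist 𝒮 1 ⟶ (Scheme.Modules.pushforward r).obj
      ((Scheme.Modules.pullback r).obj (Twist.twist 𝒮 1)) :=
    (Scheme.Modules.pullbackPushforwardAdjunction r).unit.app (Twist.twist 𝒮 1)
  have hs : ∀ j₀, sig hb r j₀ = η.app ⊤ (gs 𝒮 (hb j₀)) := fun _ => rfl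
  have h1 := push_app_res (r := r) (L := (Scheme.Modules.pullback r).obj (Twist.twist 𝒮 1))
    (N := Twist.twist 𝒮 1) η (le_top : Proj.basicOpen 𝒮 (b (c i).j) ≤ ⊤) (gs 𝒮 (hb j))
  have h1' := push_app_res (r := r) (L := (Scheme.Modules.pullback r).obj (Twist.twist 𝒮 1))
    (N := Twist.twist 𝒮 1) η (le_top : Proj.basicOpen 𝒮 (b (c i).j) ≤ ⊤) (gs 𝒮 (hb (c i).j))
  have h2 := fracO_smul_gs 𝒮 (hb j) (hb (c i).j) (Proj.basicOpen 𝒮 (b (c i).j)) (fun _ hx => hx)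
  rw [← h2, push_app_smul, ← h1'] at h1
  have h3 := congrArg (mres ((Scheme.Modules.pullback r).obj (Twist.twist 𝒮 1)) hWg) h1
  rw [mres_mres, mres_smul, mres_mres] at h3
  rw [hs, hs]
  refine h3.trans ?_
  congr 1
  exact (c i).appLE_fracO hb r (hr i) (hb j)

include hr in
theorem sig_compat (i i' : I) (cc : Γ(X, (c i).W ⊓ (c i').W))
    (h : mres L (inf_le_right : (c i).W ⊓ (c i').W ≤ (c i').W)
        (mres L (le_top : (c i').W ≤ ⊤) (v (c i').j)) =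
      cc • mres L (inf_le_left : (c i).W ⊓ (c i').W ≤ (c i).W)
        (mres L (le_top : (c i).W ≤ ⊤) (v (c i).j))) :
    mres ((Scheme.Modules.pullback r).obj (Twist.twist 𝒮 1))
        (inf_le_right : (c i).W ⊓ (c i').W ≤ (c i').W)
        (mres ((Scheme.Modules.pullback r).obj (Twist.twist 𝒮 1)) (le_top : (c i').W ≤ ⊤)
          (sig hb r (c i').j)) =
      cc • mres ((Scheme.Modules.pullback r).obj (Twist.twist 𝒮 1))
        (inf_le_left : (c i).W ⊓ (c i').W ≤ (c i).W)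
        (mres ((Scheme.Modules.pullback r).obj (Twist.twist 𝒮 1)) (le_top : (c i).W ≤ ⊤)
          (sig hb r (c i).j)) := by
  have hc : cc = X.presheaf.map (homOfLE (inf_le_left : (c i).W ⊓ (c i').W ≤ (c i).W)).op
      ((c i).F (b (c i').j)) := by
    apply ((c i).basis ((c i).W ⊓ (c i').W) inf_le_left).1
    change cc • mres L inf_le_left (mres L le_top (v (c i).j)) =
      X.presheaf.map (homOfLE (inf_le_left : (c i).W ⊓ (c i').W ≤ (c i).W)).op
        ((c i).F (b (c i').j)) • mres L inf_le_left (mres L le_top (v (c i).j))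
    rw [← h, ← mres_smul, (c i).F_b, mres_mres, mres_mres]
  subst hc
  rw [← mres_smul, ← sig_res c hb r hr, mres_mres, mres_mres]

/-- the morphism `L ⟶ r^* O(1)` -/
noncomputable def tauInv : L ⟶ (Scheme.Modules.pullback r).obj (Twist.twist 𝒮 1) :=
  homOfLocalBasis (fun i => (c i).W) hcov
    (fun i => mres L (le_top : (c i).W ≤ ⊤) (v (c i).j)) (fun i => (c i).basis)
    (fun i => mres ((Scheme.Modules.pullback r).obj (Twist.twist 𝒮 1)) (le_top : (c i).W ≤ ⊤)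
      (sig hb r (c i).j))
    (fun i i' cc h => sig_compat c hb r hr i i' cc h)

theorem tauInv_app (i : I) :
    (tauInv c hb hcov r hr).app (c i).W (mres L (le_top : (c i).W ≤ ⊤) (v (c i).j)) =
      mres ((Scheme.Modules.pullback r).obj (Twist.twist 𝒮 1)) (le_top : (c i).W ≤ ⊤)
        (sig hb r (c i).j) :=
  homOfLocalBasis_app (fun i => (c i).W) hcov
    (fun i => mres L (le_top : (c i).W ≤ ⊤) (v (c i).j)) (fun i => (c i).basis)
    (fun i => mres ((Scheme.Modules.pullback r).obj (Twist.twist 𝒮 1)) (le_top : (c i).W ≤ ⊤)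
      (sig hb r (c i).j))
    (fun i i' cc h => sig_compat c hb r hr i i' cc h) i

theorem tauInv_app_top (j : J) : (tauInv c hb hcov r hr).app ⊤ (v j) = sig hb r j := by
  refine modules_eq_of_locally_eq _ _ _ (fun x _ => ?_)
  obtain ⟨i, hi⟩ := hcov x
  refine ⟨(c i).W, le_top, hi, ?_⟩
  rw [app_res, ← (c i).F_b j, Scheme.Modules.Hom.app_smul, tauInv_app]
  exact (sig_res c hb r hr i j).symm

end core3


section core4

variable {A S : Type u} [CommRing A] [CommRing S] [Algebra A S]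
variable {𝒮 : ℕ → Submodule A S} [GradedAlgebra 𝒮]
variable {X : Scheme.{u}} {q : X ⟶ Spec (CommRingCat.of A)} {L : X.Modules}
variable {J : Type*} {b : J → S} {v : J → Γ(L, (⊤ : X.Opens))}
variable {I : Type*} (c : I → Chart q L b v) (hb : ∀ j, b j ∈ 𝒮 1)
  (hcov : ∀ x : X, ∃ i, x ∈ (c i).W)
  (hproj : ∀ y : Proj 𝒮, ∃ j, y ∈ Proj.basicOpen 𝒮 (b j))
  (r : X ⟶ Proj 𝒮) (hr : ∀ i, (c i).W.ι ≫ r = (c i).map 𝒮 hb)

theorem tau_app_sig (j : J) : (tau c hb hcov hproj r hr).app ⊤ (sig hb r j) = v j :=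
  (tau_app_pullSec c hb hcov hproj r hr (gs 𝒮 (hb j))).trans
    (tauFlat_app_top c hb hcov hproj r hr j)

theorem tauInv_comp_tau : tauInv c hb hcov r hr ≫ tau c hb hcov hproj r hr = 𝟙 L := by
  refine hom_ext_of_localBasis (fun i => (c i).W) hcov
    (fun i => mres L (le_top : (c i).W ≤ ⊤) (v (c i).j)) (fun i => (c i).basis) _ _ (fun i => ?_)
  change (tau c hb hcov hproj r hr).app (c i).W ((tauInv c hb hcov r hr).app (c i).W
    (mres L (le_top : (c i).W ≤ ⊤) (v (c i).j))) = mres L (le_top : (c i).W ≤ ⊤) (v (c i).j)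
  rw [tauInv_app, ← app_res, tau_app_sig]

theorem tau_comp_tauInv : tau c hb hcov hproj r hr ≫ tauInv c hb hcov r hr =
    𝟙 ((Scheme.Modules.pullback r).obj (Twist.twist 𝒮 1)) := by
  apply ((Scheme.Modules.pullbackPushforwardAdjunction r).homEquiv (Twist.twist 𝒮 1)
    ((Scheme.Modules.pullback r).obj (Twist.twist 𝒮 1))).injective
  rw [Adjunction.homEquiv_unit, Adjunction.homEquiv_unit, CategoryTheory.Functor.map_comp, ← Category.assoc,
    unit_comp_tau, CategoryTheory.Functor.map_id]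
  erw [Category.comp_id]
  refine hom_ext_of_localBasis (fun j => Proj.basicOpen 𝒮 (b j)) hproj
    (fun j => mres (Twist.twist 𝒮 1) (le_top : Proj.basicOpen 𝒮 (b j) ≤ ⊤) (gs 𝒮 (hb j)))
    (fun j => isBasisOn_gs 𝒮 (hb j)) _ _ (fun j => ?_)
  let η : Twist.twist 𝒮 1 ⟶ (Scheme.Modules.pushforward r).obj
      ((Scheme.Modules.pullback r).obj (Twist.twist 𝒮 1)) :=
    (Scheme.Modules.pullbackPushforwardAdjunction r).unit.app (Twist.twist 𝒮 1)
  have h1 := push_app_res (r := r) (L := (Scheme.Modules.pullback r).obj (Twist.twist 𝒮 1))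
    (N := Twist.twist 𝒮 1) η (le_top : Proj.basicOpen 𝒮 (b j) ≤ ⊤) (gs 𝒮 (hb j))
  refine Eq.trans ?_ h1
  change (tauInv c hb hcov r hr).app (r ⁻¹ᵁ Proj.basicOpen 𝒮 (b j))
    ((tauFlat c hb hcov hproj r hr).app (Proj.basicOpen 𝒮 (b j))
      (mres (Twist.twist 𝒮 1) (le_top : Proj.basicOpen 𝒮 (b j) ≤ ⊤) (gs 𝒮 (hb j)))) = _
  rw [tauFlat_app]
  unfold gam
  rw [← app_res, tauInv_app_top]
  rfl

/-- the isomorphism `r^* O(1) ≅ L` -/
noncomputable def tauIso : (Scheme.Modules.pullback r).obj (Twist.twist 𝒮 1) ≅ L where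
  hom := tau c hb hcov hproj r hr
  inv := tauInv c hb hcov r hr
  hom_inv_id := tau_comp_tauInv c hb hcov hproj r hr
  inv_hom_id := tauInv_comp_tau c hb hcov hproj r hr

end core4

section main

variable {A S : Type u} [CommRing A] [CommRing S] [Algebra A S]
variable (𝒮 : ℕ → Submodule A S) [GradedAlgebra 𝒮]
variable {X : Scheme.{u}} (q : X ⟶ Spec (CommRingCat.of A)) (L : X.Modules)
variable {J : Type*} (b : J → S) (v : J → Γ(L, (⊤ : X.Opens)))

/-- Core existence statement: a compatible family of charts produces a morphism to `Proj` and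
an isomorphism of the pull back of `O(1)` with `L`. -/
theorem exists_hom_of_charts {I : Type*} (c : I → Chart q L b v) (hb : ∀ j, b j ∈ 𝒮 1)
    (hcov : ∀ x : X, ∃ i, x ∈ (c i).W)
    (hcompat : ∀ i i', ∃ u : Γ(X, (c i).W ⊓ (c i').W), ∀ (k : ℕ) (a : S), a ∈ 𝒮 k →
      X.presheaf.map (homOfLE (inf_le_right : (c i).W ⊓ (c i').W ≤ (c i').W)).op ((c i').F a) =
        u ^ k * X.presheaf.map (homOfLE (inf_le_left : (c i).W ⊓ (c i').W ≤ (c i).W)).op
          ((c i).F a))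
    (hproj : ∀ y : Proj 𝒮, ∃ j, y ∈ Proj.basicOpen 𝒮 (b j)) :
    ∃ (r : X ⟶ Proj 𝒮)
      (_ : r ≫ Proj.toSpecZero 𝒮 ≫ Spec.map (CommRingCat.ofHom (algebraMap A (𝒮 0))) = q)
      (τ : (Scheme.Modules.pullback r).obj (Twist.twist 𝒮 1) ≅ L),
      ∀ j : J, τ.hom.app ⊤ (ProjUP.pullSec r (Twist.twist 𝒮 1)
        (Twist.globalOf 𝒮 ⟨b j, hb j⟩)) = v j := by
  obtain ⟨r, hr⟩ := exists_glue c hb hcov hcompat
  exact ⟨r, glue_comp_toSpecZero c hb hcov r hr, tauIso c hb hcov hproj r hr,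
    fun j => tau_app_sig c hb hcov hproj r hr j⟩

end main

end Groth.Agent.H18.PUP
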