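import Mathlib.RingTheory.GradedAlgebra.HomogeneousLocalization
import Mathlib.Algebra.DirectSum.Algebra

/-!
Dehomogenisation `S → S_(g)` for `g` of degree one (helper18).
-/

set_option autoImplicit false
universe u

open DirectSum HomogeneousLocalization

namespace Groth.Agent.H18.PUP

variable {A S : Type*} [CommRing A] [CommRing S] [Algebra A S]
variable (𝒮 : ℕ → Submodule A S) [GradedAlgebra 𝒮]

omit [GradedAlgebra 𝒮] in
theorem mem_smul_one {k : ℕ} {a : S} (ha : a ∈ 𝒮 k) : a ∈ 𝒮 (k • 1) := by
  rw [smul_eq_mul, mul_one]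
  exact ha

/-- `a ↦ a / g ^ k` on the degree `k` part -/
noncomputable def dehomPart {g : S} (hg : g ∈ 𝒮 1) (k : ℕ) : 𝒮 k →+ Away 𝒮 g where
  toFun a := Away.mk 𝒮 hg k a.1 (mem_smul_one 𝒮 a.2)
  map_zero' := by
    apply HomogeneousLocalization.val_injective
    rw [Away.val_mk, HomogeneousLocalization.val_zero]
    exact Localization.mk_zero _
  map_add' a a' := by
    apply HomogeneousLocalization.val_injective
    rw [HomogeneousLocalization.val_add, Away.val_mk, Away.val_mk, Away.val_mk,
      Localization.add_mk_self]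
    rfl

/-- dehomogenisation with respect to an element of degree one -/
noncomputable def dehom {g : S} (hg : g ∈ 𝒮 1) : S →+* Away 𝒮 g :=
  (DirectSum.toSemiring (fun k => dehomPart 𝒮 hg k)
    (by
      apply HomogeneousLocalization.val_injective
      change (Away.mk 𝒮 hg 0 (1 : S) _).val = _
      rw [Away.val_mk, HomogeneousLocalization.val_one]
      simp only [pow_zero]
      exact Localization.mk_self (1 : Submonoid.powers g))
    (by
      intro i j ai aj
      apply HomogeneousLocalization.val_injective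
      change (Away.mk 𝒮 hg (i + j) ((ai : S) * (aj : S)) _).val =
        ((Away.mk 𝒮 hg i (ai : S) _) * (Away.mk 𝒮 hg j (aj : S) _)).val
      rw [HomogeneousLocalization.val_mul, Away.val_mk, Away.val_mk, Away.val_mk,
        Localization.mk_mul]
      congr 1
      exact Subtype.ext (pow_add g i j))).comp
    (DirectSum.decomposeRingEquiv 𝒮).toRingHom

theorem dehom_apply {g : S} (hg : g ∈ 𝒮 1) {k : ℕ} {a : S} (ha : a ∈ 𝒮 k) :
    dehom 𝒮 hg a = Away.mk 𝒮 hg k a (mem_smul_one 𝒮 ha) := by
  unfold dehom
  rw [RingHom.comp_apply]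
  have h1 : (DirectSum.decomposeRingEquiv 𝒮).toRingHom a =
      DirectSum.of (fun i => 𝒮 i) k ⟨a, ha⟩ := DirectSum.decompose_of_mem 𝒮 ha
  rw [h1, DirectSum.toSemiring_of]
  rfl

end Groth.Agent.H18.PUP
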