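import Mathlib.AlgebraicGeometry.Gluing
import Mathlib.AlgebraicGeometry.Restrict

/-!
Gluing morphisms of schemes along a cover by open subschemes (helper18).
-/

set_option autoImplicit false
universe u

open AlgebraicGeometry CategoryTheory CategoryTheory.Limits

namespace Groth.Agent.H18.PUP

/-- Morphisms defined on the members of an open cover which agree on the pairwise intersections
glue uniquely. -/
theorem existsUnique_glue_opens {E T : Scheme.{u}} {I : Type*} (W : I → E.Opens)
    (hW : TopologicalSpace.IsOpenCover W) (g : ∀ i, (W i : Scheme.{u}) ⟶ T)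
    (H : ∀ i j, E.homOfLE (inf_le_left : W i ⊓ W j ≤ W i) ≫ g i =
      E.homOfLE (inf_le_right : W i ⊓ W j ≤ W j) ≫ g j) :
    ∃! π : E ⟶ T, ∀ i, (W i).ι ≫ π = g i := by
  let 𝒰 : E.OpenCover := E.openCoverOfIsOpenCover W hW
  have hcompat : ∀ i j : I, pullback.fst (𝒰.f i) (𝒰.f j) ≫ g i = pullback.snd _ _ ≫ g j := by
    intro i j
    have P := isPullback_opens_inf (W i) (W j)
    have h1 : P.isoPullback.hom ≫ pullback.fst (W i).ι (W j).ι = E.homOfLE inf_le_left :=
      P.isoPullback_hom_fst
    have h2 : P.isoPullback.hom ≫ pullback.snd (W i).ι (W j).ι = E.homOfLE inf_le_right :=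
      P.isoPullback_hom_snd
    change pullback.fst (W i).ι (W j).ι ≫ g i = pullback.snd (W i).ι (W j).ι ≫ g j
    rw [← cancel_epi P.isoPullback.hom, ← Category.assoc, ← Category.assoc, h1, h2]
    exact H i j
  refine ⟨𝒰.glueMorphisms g hcompat, fun i => 𝒰.ι_glueMorphisms g hcompat i, ?_⟩
  intro π' hπ'
  refine 𝒰.hom_ext _ _ fun i => ?_
  exact (hπ' i).trans (𝒰.ι_glueMorphisms g hcompat i).symm

end Groth.Agent.H18.PUP
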