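import Mathlib.AlgebraicGeometry.ProjectiveSpectrum.Basic
import Groth.Agent.H18.PUP.Glue
import Groth.Prelude.Def_ProjUP

set_option autoImplicit false
universe u

open AlgebraicGeometry CategoryTheory CategoryTheory.Limits HomogeneousLocalization

namespace Groth.Agent.H18.PUP

variable {A S : Type u} [CommRing A] [CommRing S] [Algebra A S]
variable (𝒮 : ℕ → Submodule A S) [GradedAlgebra 𝒮]

section algebra

variable {B : Type*} [CommRing B]

/-- the ring homomorphism out of the degree zero localisation `S_(g)` induced by a ring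
homomorphism inverting `g` -/
noncomputable def awayLift (g : S) (F : S →+* B) (hF : IsUnit (F g)) : Away 𝒮 g →+* B :=
  (IsLocalization.Away.lift (S := Localization.Away g) g hF).comp
    (algebraMap (Away 𝒮 g) (Localization.Away g))

theorem awayLift_mk_mul {g : S} {d : ℕ} (hg : g ∈ 𝒮 d) (F : S →+* B) (hF : IsUnit (F g))
    (k : ℕ) (a : S) (ha : a ∈ 𝒮 (k • d)) :
    awayLift 𝒮 g F hF (Away.mk 𝒮 hg k a ha) * F g ^ k = F a := by
  have h1 : awayLift 𝒮 g F hF (Away.mk 𝒮 hg k a ha) =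
      IsLocalization.Away.lift (S := Localization.Away g) g hF
        (Localization.mk a (⟨g ^ k, ⟨k, rfl⟩⟩ : Submonoid.powers g)) := rfl
  have h2 : (Localization.mk a (⟨g ^ k, ⟨k, rfl⟩⟩ : Submonoid.powers g) : Localization.Away g) *
      algebraMap S (Localization.Away g) (g ^ k) = algebraMap S (Localization.Away g) a := by
    rw [Localization.mk_eq_mk']
    exact IsLocalization.mk'_spec _ a (⟨g ^ k, ⟨k, rfl⟩⟩ : Submonoid.powers g)
  have h3 := congrArg (IsLocalization.Away.lift (S := Localization.Away g) g hF) h2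
  rw [map_mul, IsLocalization.Away.lift_eq, IsLocalization.Away.lift_eq, map_pow] at h3
  rw [h1]
  exact h3

/-- two ring homomorphisms out of `S_(g)` agree if they agree up to units on the fractions -/
theorem awayHom_ext {g : S} {d : ℕ} (hg : g ∈ 𝒮 d) (ψ₁ ψ₂ : Away 𝒮 g →+* B)
    (h : ∀ (k : ℕ) (a : S) (ha : a ∈ 𝒮 (k • d)), ∃ c : B, IsUnit c ∧
      ψ₁ (Away.mk 𝒮 hg k a ha) * c = ψ₂ (Away.mk 𝒮 hg k a ha) * c) : ψ₁ = ψ₂ := by
  ext z
  obtain ⟨k, a, ha, rfl⟩ := Away.mk_surjective 𝒮 hg z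
  obtain ⟨c, hc, hc'⟩ := h k a ha
  exact hc.mul_left_injective hc'

theorem awayLift_comp {B' : Type*} [CommRing B'] (ψ : B →+* B') {g : S} {d : ℕ} (hg : g ∈ 𝒮 d)
    (F : S →+* B) (hF : IsUnit (F g)) :
    ψ.comp (awayLift 𝒮 g F hF) = awayLift 𝒮 g (ψ.comp F) (hF.map ψ) := by
  refine awayHom_ext 𝒮 hg _ _ fun k a ha => ⟨(ψ.comp F) g ^ k, (hF.map ψ).pow k, ?_⟩
  rw [awayLift_mk_mul]
  change ψ (awayLift 𝒮 g F hF (Away.mk 𝒮 hg k a ha)) * ψ (F g) ^ k = ψ (F a)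
  rw [← map_pow, ← map_mul, awayLift_mk_mul]

theorem awayLift_fromZero {g : S} (F : S →+* B) (hF : IsUnit (F g)) (a : 𝒮 0) :
    awayLift 𝒮 g F hF (fromZeroRingHom 𝒮 _ a) = F a := by
  change IsLocalization.Away.lift (S := Localization.Away g) g hF
    (algebraMap S (Localization.Away g) a) = F a
  rw [IsLocalization.Away.lift_eq]

end algebra


section scheme

variable {X : Scheme.{u}}

/-- the morphism from an open `W` of `X` to `Proj` induced by a ring homomorphism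
`S → Γ(X, W)` inverting a homogeneous element `g` of positive degree -/
noncomputable def localMap (W : X.Opens) {g : S} {d : ℕ} (hg : g ∈ 𝒮 d) (hd : 0 < d)
    (F : S →+* Γ(X, W)) (hF : IsUnit (F g)) : (W : Scheme.{u}) ⟶ Proj 𝒮 :=
  W.toSpecΓ ≫ Spec.map (CommRingCat.ofHom (awayLift 𝒮 g F hF)) ≫ Proj.awayι 𝒮 g hg hd

theorem homOfLE_localMap {W W' : X.Opens} (h : W' ≤ W) {g : S} {d : ℕ} (hg : g ∈ 𝒮 d) (hd : 0 < d)
    (F : S →+* Γ(X, W)) (hF : IsUnit (F g)) :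
    X.homOfLE h ≫ localMap 𝒮 W hg hd F hF =
      localMap 𝒮 W' hg hd ((X.presheaf.map (homOfLE h).op).hom.comp F)
        (hF.map (X.presheaf.map (homOfLE h).op).hom) := by
  unfold localMap
  rw [← Scheme.Opens.toSpecΓ_SpecMap_presheaf_map_assoc, ← awayLift_comp 𝒮 _ hg]
  rw [← Category.assoc (Spec.map _), ← Spec.map_comp]
  rfl

theorem awayι_congr {g : S} {d d' : ℕ} (h : d = d') (hg : g ∈ 𝒮 d) (hg' : g ∈ 𝒮 d') (hd : 0 < d)
    (hd' : 0 < d') : Proj.awayι 𝒮 g hg hd = Proj.awayι 𝒮 g hg' hd' := by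
  subst h
  rfl

/-- two charts give the same morphism if the ring homomorphisms differ by a unit to the power
of the degree -/
theorem SpecMap_awayLift_awayι_eq {B : Type u} [CommRing B] {g g' : S} {d d' : ℕ}
    (hg : g ∈ 𝒮 d) (hd : 0 < d) (hg' : g' ∈ 𝒮 d') (hd' : 0 < d')
    (F F' : S →+* B) (hF : IsUnit (F g)) (hF' : IsUnit (F' g')) (u : B)
    (huF : ∀ (k : ℕ) (a : S), a ∈ 𝒮 k → F' a = u ^ k * F a) :
    Spec.map (CommRingCat.ofHom (awayLift 𝒮 g F hF)) ≫ Proj.awayι 𝒮 g hg hd =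
      Spec.map (CommRingCat.ofHom (awayLift 𝒮 g' F' hF')) ≫ Proj.awayι 𝒮 g' hg' hd' := by
  have hFg' : IsUnit (F g') := by
    have h1 := huF d' g' hg'
    rw [h1] at hF'
    exact isUnit_of_mul_isUnit_right hF'
  have hFgg' : IsUnit (F (g * g')) := by
    rw [map_mul]
    exact hF.mul hFg'
  have hgg' : g * g' ∈ 𝒮 (d + d') := SetLike.mul_mem_graded hg hg'
  have hg'g : g * g' ∈ 𝒮 (d' + d) := by
    rw [mul_comm]
    exact SetLike.mul_mem_graded hg' hg
  -- first chart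
  have e1 : awayLift 𝒮 g F hF =
      (awayLift 𝒮 (g * g') F hFgg').comp (awayMap 𝒮 hg' (rfl : g * g' = g * g')) := by
    refine awayHom_ext 𝒮 hg _ _ fun k a ha => ⟨F g ^ k * F g' ^ k, (hF.pow k).mul (hFg'.pow k), ?_⟩
    rw [← mul_assoc, awayLift_mk_mul]
    change _ = awayLift 𝒮 (g * g') F hFgg' (awayMap 𝒮 hg' rfl (Away.mk 𝒮 hg k a ha)) * _
    rw [awayMap_mk, ← mul_pow, ← map_mul, awayLift_mk_mul, map_mul, map_pow]
  have e2 : awayLift 𝒮 g' F' hF' =
      (awayLift 𝒮 (g * g') F hFgg').comp (awayMap 𝒮 hg (mul_comm g g' : g * g' = g' * g)) := by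
    refine awayHom_ext 𝒮 hg' _ _ fun k a ha =>
      ⟨F' g' ^ k * F g ^ k, (hF'.pow k).mul (hF.pow k), ?_⟩
    rw [← mul_assoc, awayLift_mk_mul]
    change _ = awayLift 𝒮 (g * g') F hFgg' (awayMap 𝒮 hg (mul_comm g g') (Away.mk 𝒮 hg' k a ha)) * _
    rw [awayMap_mk, huF _ a ha, huF d' g' hg']
    have h3 := awayLift_mk_mul 𝒮 hg'g F hFgg' k (a * g ^ k)
      (by rw [smul_add]; exact SetLike.mul_mem_graded ha (SetLike.pow_mem_graded k hg))
    rw [map_mul, map_mul, map_pow, mul_pow] at h3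
    have h4 : (u ^ d' * F g') ^ k * F g ^ k = u ^ (k • d') * (F g ^ k * F g' ^ k) := by
      rw [mul_pow, ← pow_mul, smul_eq_mul, mul_comm d' k]
      ring
    rw [h4, ← mul_assoc, mul_comm _ (u ^ (k • d')), mul_assoc (u ^ (k • d')), mul_assoc (u ^ (k • d')), h3]
  rw [e1, e2, CommRingCat.ofHom_comp, CommRingCat.ofHom_comp, Spec.map_comp, Spec.map_comp,
    Category.assoc, Category.assoc, Proj.SpecMap_awayMap_awayι, Proj.SpecMap_awayMap_awayι]
  exact congrArg (Spec.map _ ≫ ·) (awayι_congr 𝒮 (add_comm d d') _ _ _ _)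

end scheme


section sections

variable {X : Scheme.{u}}

/-- a ring homomorphism into `Γ(X, W)` is determined by the induced morphism `W ⟶ Spec R` -/
theorem toSpecΓ_SpecMap_injective (W : X.Opens) {R : CommRingCat.{u}} (ψ ψ' : R ⟶ Γ(X, W))
    (h : W.toSpecΓ ≫ Spec.map ψ = W.toSpecΓ ≫ Spec.map ψ') : ψ = ψ' := by
  have key : ∀ φ : R ⟶ Γ(X, W), (W.toSpecΓ ≫ Spec.map φ).appTop =
      (Scheme.ΓSpecIso R).hom ≫ φ ≫ W.topIso.inv := by
    intro φ
    rw [Scheme.Hom.comp_appTop, Scheme.Opens.toSpecΓ_appTop, ← Category.assoc,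
      Scheme.ΓSpecIso_naturality, Category.assoc]
  have h1 := congrArg Scheme.Hom.appTop h
  rw [key, key] at h1
  have h2 := (cancel_epi (Scheme.ΓSpecIso R).hom).mp h1
  exact (cancel_mono W.topIso.inv).mp h2

variable (W : X.Opens) {g : S} {d : ℕ} (hg : g ∈ 𝒮 d) (hd : 0 < d)
  (F : S →+* Γ(X, W)) (hF : IsUnit (F g)) (r : X ⟶ Proj 𝒮)
  (hr : W.ι ≫ r = localMap 𝒮 W hg hd F hF)

include hr in
theorem le_preimage_basicOpen : W ≤ r ⁻¹ᵁ Proj.basicOpen 𝒮 g := by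
  intro x hx
  have h1 : r.base x = (W.ι ≫ r).base ⟨x, hx⟩ := rfl
  change r.base x ∈ Proj.basicOpen 𝒮 g
  rw [h1, hr, ← Proj.opensRange_awayι 𝒮 g hg hd]
  exact ⟨_, rfl⟩

theorem appLE_awayToSection (z : Away 𝒮 g) :
    (r.appLE (Proj.basicOpen 𝒮 g) W (le_preimage_basicOpen 𝒮 W hg hd F hF r hr)).hom
      ((Proj.awayToSection 𝒮 g).hom z) = awayLift 𝒮 g F hF z := by
  have ha := le_preimage_basicOpen 𝒮 W hg hd F hF r hr
  have h1 := Scheme.Opens.toSpecΓ_SpecMap_appLE r (Proj.basicOpen 𝒮 g) W ha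
  have h2 : r.resLE (Proj.basicOpen 𝒮 g) W ha = W.toSpecΓ ≫
      Spec.map (CommRingCat.ofHom (awayLift 𝒮 g F hF)) ≫ (Proj.basicOpenIsoSpec 𝒮 g hg hd).inv := by
    rw [← cancel_mono (Proj.basicOpen 𝒮 g).ι, Scheme.Hom.resLE_comp_ι, hr]
    simp only [localMap, Category.assoc, Proj.basicOpenIsoSpec_inv_ι]
  have h3 : (Proj.basicOpenIsoSpec 𝒮 g hg hd).inv ≫ (Proj.basicOpen 𝒮 g).toSpecΓ ≫
      Spec.map (Proj.awayToSection 𝒮 g) = 𝟙 _ :=
    (Proj.basicOpenIsoSpec 𝒮 g hg hd).inv_hom_id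
  have h4 : W.toSpecΓ ≫ Spec.map (Proj.awayToSection 𝒮 g ≫
      r.appLE (Proj.basicOpen 𝒮 g) W ha) =
      W.toSpecΓ ≫ Spec.map (CommRingCat.ofHom (awayLift 𝒮 g F hF)) := by
    rw [Spec.map_comp, ← Category.assoc, h1, h2]
    simp only [Category.assoc]
    rw [h3, Category.comp_id]
  have h5 := toSpecΓ_SpecMap_injective W _ _ h4
  exact ConcreteCategory.congr_hom h5 z

end sections


section structureMap

variable {X : Scheme.{u}}

theorem eq_toSpecΓ_SpecMap_toGlobal (q : X ⟶ Spec (CommRingCat.of A)) :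
    q = X.toSpecΓ ≫ Spec.map (CommRingCat.ofHom (ProjUP.toGlobal q)) := by
  have h1 := Scheme.toSpecΓ_naturality q
  rw [← SpecMap_ΓSpecIso_hom] at h1
  have h2 : ProjUP.toGlobal q = ((Scheme.ΓSpecIso (CommRingCat.of A)).inv ≫ q.appTop).hom := rfl
  rw [h2, CommRingCat.ofHom_hom, Spec.map_comp, ← Category.assoc, ← h1, Category.assoc,
    ← Spec.map_comp, Iso.inv_hom_id, Spec.map_id, Category.comp_id]

theorem ι_comp_eq (W : X.Opens) (q : X ⟶ Spec (CommRingCat.of A)) :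
    W.ι ≫ q = W.toSpecΓ ≫ Spec.map (CommRingCat.ofHom
      ((X.presheaf.map (homOfLE (le_top : W ≤ ⊤)).op).hom.comp (ProjUP.toGlobal q))) := by
  conv_lhs => rw [eq_toSpecΓ_SpecMap_toGlobal q]
  rw [← Category.assoc, ← Scheme.Opens.toSpecΓ_SpecMap_presheaf_map_top, Category.assoc,
    ← Spec.map_comp]
  rfl

theorem localMap_comp_toSpecZero (W : X.Opens) {g : S} {d : ℕ} (hg : g ∈ 𝒮 d) (hd : 0 < d)
    (F : S →+* Γ(X, W)) (hF : IsUnit (F g)) (q : X ⟶ Spec (CommRingCat.of A))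
    (hFA : ∀ a : A, F (algebraMap A S a) =
      X.presheaf.map (homOfLE (le_top : W ≤ ⊤)).op (ProjUP.toGlobal q a)) :
    localMap 𝒮 W hg hd F hF ≫ Proj.toSpecZero 𝒮 ≫
      Spec.map (CommRingCat.ofHom (algebraMap A (𝒮 0))) = W.ι ≫ q := by
  rw [ι_comp_eq]
  unfold localMap
  simp only [Category.assoc]
  rw [Proj.awayι_toSpecZero_assoc, ← Spec.map_comp, ← Spec.map_comp]
  congr 2
  ext a
  change awayLift 𝒮 g F hF (fromZeroRingHom 𝒮 _ (algebraMap A (𝒮 0) a)) = _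
  rw [awayLift_fromZero]
  exact hFA a

end structureMap

end Groth.Agent.H18.PUP
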