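import Groth.Agent.H18.PUP.Charts
import Groth.Agent.H18.PUP.Dehom
import Groth.Prelude.Def_PicLoc
import Groth.Agent.H5.Stalk.Adjunction

set_option autoImplicit false
universe u

open AlgebraicGeometry CategoryTheory CategoryTheory.Limits HomogeneousLocalization TopologicalSpace Opposite

namespace Groth.Agent.H18.PUP

section general

variable {A S : Type u} [CommRing A] [CommRing S] [Algebra A S]
variable (𝒮 : ℕ → Submodule A S) [GradedAlgebra 𝒮]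
variable {X : Scheme.{u}} (r : X ⟶ Proj 𝒮)

/-- the pulled back section -/
noncomputable def psec {a : S} (ha : a ∈ 𝒮 1) :
    Γ((Scheme.Modules.pullback r).obj (Twist.twist 𝒮 1), (⊤ : X.Opens)) :=
  ProjUP.pullSec r (Twist.twist 𝒮 1) (gs 𝒮 ha)

/-- on `r⁻¹ D₊(g)`, `r^* a = r^♯(a / g) • r^* g` -/
theorem psec_ratio {a g : S} (ha : a ∈ 𝒮 1) (hg : g ∈ 𝒮 1) :
    mres ((Scheme.Modules.pullback r).obj (Twist.twist 𝒮 1))
        (le_top : r ⁻¹ᵁ Proj.basicOpen 𝒮 g ≤ ⊤) (psec 𝒮 r ha) =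
      (r.app (Proj.basicOpen 𝒮 g)).hom (fracO 𝒮 ha hg (Proj.basicOpen 𝒮 g) (fun _ hx => hx)) •
        mres ((Scheme.Modules.pullback r).obj (Twist.twist 𝒮 1))
          (le_top : r ⁻¹ᵁ Proj.basicOpen 𝒮 g ≤ ⊤) (psec 𝒮 r hg) := by
  let η : Twist.twist 𝒮 1 ⟶ (Scheme.Modules.pushforward r).obj
      ((Scheme.Modules.pullback r).obj (Twist.twist 𝒮 1)) :=
    (Scheme.Modules.pullbackPushforwardAdjunction r).unit.app (Twist.twist 𝒮 1)
  have hs : ∀ {a₀ : S} (ha₀ : a₀ ∈ 𝒮 1), psec 𝒮 r ha₀ = η.app ⊤ (gs 𝒮 ha₀) := fun _ => rfl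
  have h1 := push_app_res (r := r) (L := (Scheme.Modules.pullback r).obj (Twist.twist 𝒮 1))
    (N := Twist.twist 𝒮 1) η (le_top : Proj.basicOpen 𝒮 g ≤ ⊤) (gs 𝒮 ha)
  have h1' := push_app_res (r := r) (L := (Scheme.Modules.pullback r).obj (Twist.twist 𝒮 1))
    (N := Twist.twist 𝒮 1) η (le_top : Proj.basicOpen 𝒮 g ≤ ⊤) (gs 𝒮 hg)
  have h2 := fracO_smul_gs 𝒮 ha hg (Proj.basicOpen 𝒮 g) (fun _ hx => hx)
  rw [← h2, push_app_smul, ← h1'] at h1
  rw [hs, hs]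
  exact h1

/-- the non-vanishing locus of the function `a / g` on `D₊(g)` lies in `D₊(a)` -/
theorem basicOpen_fracO_le {a g : S} (ha : a ∈ 𝒮 1) (hg : g ∈ 𝒮 1) :
    (Proj 𝒮).basicOpen (fracO 𝒮 ha hg (Proj.basicOpen 𝒮 g) (fun _ hx => hx)) ≤
      Proj.basicOpen 𝒮 a := by
  intro y hy
  obtain ⟨hyg, hu⟩ := ((Proj 𝒮).mem_basicOpen'' _ y).mp hy
  have h1 := AlgebraicGeometry.Proj.stalkIso'_germ 𝒮 (Proj.basicOpen 𝒮 g) y hyg
    (fracO 𝒮 ha hg (Proj.basicOpen 𝒮 g) (fun _ hx => hx))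
  have h2 : IsUnit ((fracO 𝒮 ha hg (Proj.basicOpen 𝒮 g) (fun _ hx => hx)).1 ⟨y, hyg⟩) := by
    rw [← h1]
    exact hu.map (AlgebraicGeometry.Proj.stalkIso' 𝒮 y)
  have h3 : IsUnit ((fracO 𝒮 ha hg (Proj.basicOpen 𝒮 g) (fun _ hx => hx)).1 ⟨y, hyg⟩).val :=
    h2.map (algebraMap (HomogeneousLocalization.AtPrime 𝒮 y.asHomogeneousIdeal.toIdeal)
      (Localization.AtPrime y.asHomogeneousIdeal.toIdeal))
  rw [fracO_val, Localization.mk_eq_mk', IsLocalization.AtPrime.isUnit_mk'_iff] at h3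
  exact h3

end general

section gen

variable {X Y : Scheme.{u}} (r : X ⟶ Y) (N : Y.Modules)

/-- if `N` is locally generated (over sections) by single global sections `s j`, then the inverse
image of `N` is generated by the pulled back sections -/
theorem generatedBy_pullSec {J : Type*} (s : J → Γ(N, (⊤ : Y.Opens)))
    (hloc : ∀ (U : Y.Opens) (t : Γ(N, U)) (y : Y), y ∈ U → ∃ (U' : Y.Opens) (hU' : U' ≤ U) (j : J)
      (c : Γ(Y, U')), y ∈ U' ∧ mres N hU' t = c • mres N (le_top : U' ≤ ⊤) (s j)) :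
    ProjUP.GeneratedBy ((Scheme.Modules.pullback r).obj N)
      (fun j => ProjUP.pullSec r N (s j)) := by
  intro x
  let P : X.Modules := (Scheme.Modules.pullback r).obj N
  let η : N ⟶ (Scheme.Modules.pushforward r).obj P :=
    (Scheme.Modules.pullbackPushforwardAdjunction r).unit.app N
  have hs : ∀ j, ProjUP.pullSec r N (s j) = η.app ⊤ (s j) := fun _ => rfl
  let T : Submodule (X.presheaf.stalk x) (P.presheaf.stalk x) :=
    Submodule.span _ (Set.range fun j =>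
      (P.presheaf.germ ⊤ x trivial).hom (ProjUP.pullSec r N (s j)))
  change T = ⊤
  let Q : ModuleCat.{u} (X.presheaf.stalk x) := ModuleCat.of _ (P.presheaf.stalk x ⧸ T)
  let θ : (H5.Stalk.stalkFunctor x).obj P ⟶ Q := ModuleCat.ofHom T.mkQ
  have hψ : H5.Stalk.toSky x θ = 0 := by
    apply ((Scheme.Modules.pullbackPushforwardAdjunction r).homEquiv N
      (H5.Stalk.sky x Q)).injective
    rw [Adjunction.homEquiv_unit, Adjunction.homEquiv_unit, CategoryTheory.Functor.map_zero,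
      comp_zero]
    refine Scheme.Modules.hom_ext _ _ fun U => ?_
    ext t
    change (H5.Stalk.toSky x θ).app (r ⁻¹ᵁ U) (η.app U t) = 0
    refine funext fun h => ?_
    rw [H5.Stalk.toSky_app_apply]
    obtain ⟨U', hU', j, c, hyU', hc⟩ := hloc U t (r.base x) h.down
    have hx' : x ∈ r ⁻¹ᵁ U' := hyU'
    have e1 : P.presheaf.germ (r ⁻¹ᵁ U) x h.down (η.app U t) =
        P.presheaf.germ (r ⁻¹ᵁ U') x hx' (η.app U' (mres N hU' t)) := by
      rw [← push_app_res η hU' t]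
      exact (TopCat.Presheaf.germ_res_apply P.presheaf (homOfLE (preimage_mono' r hU')) x hx'
        (η.app U t)).symm
    have e2 : P.presheaf.germ (r ⁻¹ᵁ U') x hx' (η.app U' (mres N (le_top : U' ≤ ⊤) (s j))) =
        (P.presheaf.germ ⊤ x trivial).hom (ProjUP.pullSec r N (s j)) := by
      rw [← push_app_res η (le_top : U' ≤ ⊤) (s j), hs]
      exact TopCat.Presheaf.germ_res_apply P.presheaf
        (homOfLE (preimage_mono' r (le_top : U' ≤ ⊤))) x hx' (η.app ⊤ (s j))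
    rw [e1, hc, push_app_smul, germ_smul', e2]
    exact (Submodule.Quotient.mk_eq_zero T).mpr
      (T.smul_mem _ (Submodule.subset_span ⟨j, rfl⟩))
  have hθ : θ = 0 := by
    have h0 : H5.Stalk.toSky x (0 : (H5.Stalk.stalkFunctor x).obj P ⟶ Q) = 0 := by
      refine Scheme.Modules.hom_ext _ _ fun U => ?_
      ext t
      rfl
    rw [← H5.Stalk.fromSky_toSky x θ, hψ, ← h0, H5.Stalk.fromSky_toSky]
  rw [eq_top_iff]
  intro m _
  have h1 : θ.hom m = 0 := by rw [hθ]; rfl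
  exact (Submodule.Quotient.mk_eq_zero T).mp h1

end gen


section K

variable {A S : Type u} [CommRing A] [CommRing S] [Algebra A S]
variable (𝒮 : ℕ → Submodule A S) [GradedAlgebra 𝒮]
variable {X : Scheme.{u}} (r : X ⟶ Proj 𝒮)

/-- two morphisms which agree on the members of an open cover are equal -/
theorem hom_ext_of_cover {E T : Scheme.{u}} {I : Type*} (W : I → E.Opens)
    (hW : ∀ x : E, ∃ i, x ∈ W i) (f g : E ⟶ T) (h : ∀ i, (W i).ι ≫ f = (W i).ι ≫ g) : f = g := by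
  have hcov : IsOpenCover W := by
    rw [IsOpenCover, eq_top_iff]
    intro x _
    obtain ⟨i, hi⟩ := hW x
    exact Opens.mem_iSup.mpr ⟨i, hi⟩
  obtain ⟨π, -, huniq⟩ := existsUnique_glue_opens W hcov (fun i => (W i).ι ≫ g) (by
    intro i j
    rw [Scheme.homOfLE_ι_assoc, Scheme.homOfLE_ι_assoc])
  rw [huniq f h, ← huniq g (fun _ => rfl)]

/-- the structure morphism of `Proj` over `Spec A` -/
noncomputable abbrev pA : Proj 𝒮 ⟶ Spec (CommRingCat.of A) :=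
  Proj.toSpecZero 𝒮 ≫ Spec.map (CommRingCat.ofHom (algebraMap A (𝒮 0)))

/-- if `r^* g` is a basis of `r^* O(1)` over `W`, then `r` maps `W` into `D₊(g)` -/
theorem le_preimage_of_isBasisOn {g : S} (hg : g ∈ 𝒮 1) (W : X.Opens)
    (hb : IsBasisOn ((Scheme.Modules.pullback r).obj (Twist.twist 𝒮 1)) W
      (mres _ (le_top : W ≤ ⊤) (psec 𝒮 r hg)))
    (hproj : ∀ y : Proj 𝒮, ∃ b : S, b ∈ 𝒮 1 ∧ y ∈ Proj.basicOpen 𝒮 b) :
    W ≤ r ⁻¹ᵁ Proj.basicOpen 𝒮 g := by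
  intro x hx
  obtain ⟨b, hb1, hxb⟩ := hproj (r.base x)
  let P : X.Modules := (Scheme.Modules.pullback r).obj (Twist.twist 𝒮 1)
  have hxV : x ∈ W ⊓ r ⁻¹ᵁ Proj.basicOpen 𝒮 b := ⟨hx, hxb⟩
  have h1 := congrArg (mres P (inf_le_right : W ⊓ r ⁻¹ᵁ Proj.basicOpen 𝒮 b ≤
    r ⁻¹ᵁ Proj.basicOpen 𝒮 b)) (psec_ratio 𝒮 r hg hb1)
  rw [mres_mres, mres_smul, mres_mres] at h1
  obtain ⟨cf, hcf⟩ := (hb (W ⊓ r ⁻¹ᵁ Proj.basicOpen 𝒮 b) inf_le_left).2
    (mres P (le_top : W ⊓ r ⁻¹ᵁ Proj.basicOpen 𝒮 b ≤ ⊤) (psec 𝒮 r hb1))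
  have hcf' : cf • mres P (le_top : W ⊓ r ⁻¹ᵁ Proj.basicOpen 𝒮 b ≤ ⊤) (psec 𝒮 r hg) =
      mres P (le_top : W ⊓ r ⁻¹ᵁ Proj.basicOpen 𝒮 b ≤ ⊤) (psec 𝒮 r hb1) := by
    have := hcf
    change cf • mres P inf_le_left (mres P le_top (psec 𝒮 r hg)) = _ at this
    rwa [mres_mres] at this
  have h3 : X.presheaf.map (homOfLE (inf_le_right : W ⊓ r ⁻¹ᵁ Proj.basicOpen 𝒮 b ≤
      r ⁻¹ᵁ Proj.basicOpen 𝒮 b)).op ((r.app (Proj.basicOpen 𝒮 b)).hom
        (fracO 𝒮 hg hb1 (Proj.basicOpen 𝒮 b) (fun _ hx => hx))) * cf = 1 := by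
    apply (hb (W ⊓ r ⁻¹ᵁ Proj.basicOpen 𝒮 b) inf_le_left).1
    change (_ * cf) • mres P inf_le_left (mres P le_top (psec 𝒮 r hg)) =
      (1 : Γ(X, W ⊓ r ⁻¹ᵁ Proj.basicOpen 𝒮 b)) • mres P inf_le_left (mres P le_top (psec 𝒮 r hg))
    rw [mres_mres, mul_smul, hcf', ← h1, one_smul]
  have hu := IsUnit.of_mul_eq_one _ h3
  have hx2 : x ∈ X.basicOpen ((r.app (Proj.basicOpen 𝒮 b)).hom
      (fracO 𝒮 hg hb1 (Proj.basicOpen 𝒮 b) (fun _ hx => hx))) := by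
    rw [X.mem_basicOpen _ x hxb]
    have h4 := hu.map (X.presheaf.germ (W ⊓ r ⁻¹ᵁ Proj.basicOpen 𝒮 b) x hxV).hom
    rwa [TopCat.Presheaf.germ_res_apply] at h4
  rw [← Scheme.preimage_basicOpen] at hx2
  exact basicOpen_fracO_le 𝒮 hg hb1 hx2

end K


section chartHom

variable {A S : Type u} [CommRing A] [CommRing S] [Algebra A S]
variable (𝒮 : ℕ → Submodule A S) [GradedAlgebra 𝒮]
variable {X : Scheme.{u}} (r : X ⟶ Proj 𝒮)
variable {g : S} (hg : g ∈ 𝒮 1) (W : X.Opens) (hW : W ≤ r ⁻¹ᵁ Proj.basicOpen 𝒮 g)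

/-- the ring homomorphism `S → Γ(X, W)` attached to a morphism `r` mapping `W` into `D₊(g)` -/
noncomputable def chartHom : S →+* Γ(X, W) :=
  (Proj.awayToSection 𝒮 g ≫ r.appLE (Proj.basicOpen 𝒮 g) W hW).hom.comp (dehom 𝒮 hg)

theorem chartHom_apply {k : ℕ} {a : S} (ha : a ∈ 𝒮 k) :
    chartHom 𝒮 r hg W hW a = (r.appLE (Proj.basicOpen 𝒮 g) W hW).hom
      ((Proj.awayToSection 𝒮 g).hom (Away.mk 𝒮 hg k a (mem_smul_one 𝒮 ha))) := by
  unfold chartHom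
  rw [RingHom.comp_apply, dehom_apply 𝒮 hg ha]
  rfl

theorem chartHom_deg_one {a : S} (ha : a ∈ 𝒮 1) :
    chartHom 𝒮 r hg W hW a = (r.appLE (Proj.basicOpen 𝒮 g) W hW).hom
      (fracO 𝒮 ha hg (Proj.basicOpen 𝒮 g) (fun _ hx => hx)) := by
  rw [chartHom_apply 𝒮 r hg W hW ha, awayToSection_eq_fracO]
  congr 1
  exact fracO_eq_of_mul_eq 𝒮 _ _ _ _ _ _ _ (by rw [pow_one])

theorem chartHom_self : chartHom 𝒮 r hg W hW g = 1 := by
  rw [chartHom_deg_one 𝒮 r hg W hW hg, fracO_self, map_one]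

theorem isUnit_chartHom : IsUnit (chartHom 𝒮 r hg W hW g) := by
  rw [chartHom_self]
  exact isUnit_one

theorem awayLift_chartHom :
    CommRingCat.ofHom (awayLift 𝒮 g (chartHom 𝒮 r hg W hW) (isUnit_chartHom 𝒮 r hg W hW)) =
      Proj.awayToSection 𝒮 g ≫ r.appLE (Proj.basicOpen 𝒮 g) W hW := by
  ext z
  obtain ⟨k, a, ha, rfl⟩ := Away.mk_surjective 𝒮 hg z
  have h1 := awayLift_mk_mul 𝒮 hg (chartHom 𝒮 r hg W hW) (isUnit_chartHom 𝒮 r hg W hW) k a ha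
  rw [chartHom_self, one_pow, mul_one] at h1
  have ha' : a ∈ 𝒮 k := by
    rw [smul_eq_mul, mul_one] at ha
    exact ha
  rw [chartHom_apply 𝒮 r hg W hW ha'] at h1
  exact h1

theorem ι_comp_eq_localMap :
    W.ι ≫ r = localMap 𝒮 W hg one_pos (chartHom 𝒮 r hg W hW) (isUnit_chartHom 𝒮 r hg W hW) := by
  have R1 : r.resLE (Proj.basicOpen 𝒮 g) W hW ≫ Proj.basicOpenToSpec 𝒮 g =
      W.toSpecΓ ≫ Spec.map (Proj.awayToSection 𝒮 g ≫ r.appLE (Proj.basicOpen 𝒮 g) W hW) := by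
    unfold Proj.basicOpenToSpec
    rw [Spec.map_comp, ← Category.assoc W.toSpecΓ, Scheme.Opens.toSpecΓ_SpecMap_appLE,
      Category.assoc]
  unfold localMap
  rw [awayLift_chartHom, ← Category.assoc, ← R1, ← Proj.basicOpenIsoSpec_inv_ι,
    ← Proj.basicOpenIsoSpec_hom 𝒮 g hg one_pos]
  simp only [Category.assoc, Iso.hom_inv_id_assoc]
  exact (Scheme.Hom.resLE_comp_ι r hW).symm

theorem chartHom_algebraMap (a : A) :
    chartHom 𝒮 r hg W hW (algebraMap A S a) = resGlobal (r ≫ pA 𝒮) W a := by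
  have h0 : algebraMap A S a ∈ 𝒮 0 := SetLike.algebraMap_mem_graded 𝒮 a
  have e0 : Away.mk 𝒮 hg 0 (algebraMap A S a) (mem_smul_one 𝒮 h0) =
      fromZeroRingHom 𝒮 _ (algebraMap A (𝒮 0) a) := by
    apply HomogeneousLocalization.val_injective
    rw [Away.val_mk]
    change _ = Localization.mk (algebraMap A S a) 1
    congr 1
    exact Subtype.ext (pow_zero g)
  rw [chartHom_apply 𝒮 r hg W hW h0, e0]
  -- scheme level computation
  have R1 : r.resLE (Proj.basicOpen 𝒮 g) W hW ≫ Proj.basicOpenToSpec 𝒮 g =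
      W.toSpecΓ ≫ Spec.map (Proj.awayToSection 𝒮 g ≫ r.appLE (Proj.basicOpen 𝒮 g) W hW) := by
    unfold Proj.basicOpenToSpec
    rw [Spec.map_comp, ← Category.assoc W.toSpecΓ, Scheme.Opens.toSpecΓ_SpecMap_appLE,
      Category.assoc]
  have hU : (Proj.basicOpen 𝒮 g).ι ≫ Proj.toSpecZero 𝒮 = Proj.basicOpenToSpec 𝒮 g ≫
      Spec.map (CommRingCat.ofHom (fromZeroRingHom 𝒮 (Submonoid.powers g))) := by
    rw [← Proj.basicOpenIsoSpec_hom 𝒮 g hg one_pos, ← Proj.awayι_toSpecZero 𝒮 g hg one_pos,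
      ← Proj.basicOpenIsoSpec_inv_ι_assoc, Iso.hom_inv_id_assoc]
  have e1 : W.ι ≫ (r ≫ pA 𝒮) = W.toSpecΓ ≫ Spec.map
      (CommRingCat.ofHom (algebraMap A (𝒮 0)) ≫ CommRingCat.ofHom (fromZeroRingHom 𝒮 _) ≫
        (Proj.awayToSection 𝒮 g ≫ r.appLE (Proj.basicOpen 𝒮 g) W hW)) := by
    calc W.ι ≫ (r ≫ pA 𝒮)
        = r.resLE (Proj.basicOpen 𝒮 g) W hW ≫ ((Proj.basicOpen 𝒮 g).ι ≫ Proj.toSpecZero 𝒮) ≫
            Spec.map (CommRingCat.ofHom (algebraMap A (𝒮 0))) := by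
          rw [← Category.assoc W.ι, ← Scheme.Hom.resLE_comp_ι r hW]
          simp only [Category.assoc]
      _ = (r.resLE (Proj.basicOpen 𝒮 g) W hW ≫ Proj.basicOpenToSpec 𝒮 g) ≫
            Spec.map (CommRingCat.ofHom (fromZeroRingHom 𝒮 (Submonoid.powers g))) ≫
            Spec.map (CommRingCat.ofHom (algebraMap A (𝒮 0))) := by
          rw [hU]
          simp only [Category.assoc]
      _ = _ := by
          rw [R1]
          simp only [Spec.map_comp, Category.assoc]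
  rw [ι_comp_eq] at e1
  have e2 := toSpecΓ_SpecMap_injective W _ _ e1
  exact (ConcreteCategory.congr_hom e2 a).symm

theorem chartHom_smul_psec {a : S} (ha : a ∈ 𝒮 1) :
    chartHom 𝒮 r hg W hW a • mres ((Scheme.Modules.pullback r).obj (Twist.twist 𝒮 1))
        (le_top : W ≤ ⊤) (psec 𝒮 r hg) =
      mres ((Scheme.Modules.pullback r).obj (Twist.twist 𝒮 1)) (le_top : W ≤ ⊤) (psec 𝒮 r ha) := by
  have h1 := congrArg (mres ((Scheme.Modules.pullback r).obj (Twist.twist 𝒮 1)) hW)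
    (psec_ratio 𝒮 r ha hg)
  rw [mres_mres, mres_smul, mres_mres] at h1
  rw [h1, chartHom_deg_one 𝒮 r hg W hW ha]
  rfl

end chartHom


section unique

variable {Y : Scheme.{u}}

theorem IsBasisOn.of_iso {N N' : Y.Modules} (e : N ≅ N') {W : Y.Opens} {t : Γ(N, W)}
    (h : IsBasisOn N' W (e.hom.app W t)) : IsBasisOn N W t := by
  intro V hV
  have hbij : Function.Bijective (e.hom.app V) :=
    ConcreteCategory.bijective_of_isIso (e.hom.app V)
  have hcomp : (fun r : Γ(Y, V) => r • mres N' hV (e.hom.app W t)) =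
      (e.hom.app V) ∘ (fun r : Γ(Y, V) => r • mres N hV t) := by
    funext r
    change _ = e.hom.app V (r • mres N hV t)
    rw [Scheme.Modules.Hom.app_smul, app_res]
  have h1 := h V hV
  rw [hcomp] at h1
  exact (Function.Bijective.of_comp_iff' hbij _).mp h1

variable {A S : Type u} [CommRing A] [CommRing S] [Algebra A S]
variable (𝒮 : ℕ → Submodule A S) [GradedAlgebra 𝒮]

theorem localMap_congr {X : Scheme.{u}} (W : X.Opens) {g : S} {d : ℕ} (hg : g ∈ 𝒮 d) (hd : 0 < d)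
    {F F' : S →+* Γ(X, W)} (h : F = F') (hF : IsUnit (F g)) (hF' : IsUnit (F' g)) :
    localMap 𝒮 W hg hd F hF = localMap 𝒮 W hg hd F' hF' := by
  subst h
  rfl

theorem isInvertible_twist_one
    (hproj : ∀ y : Proj 𝒮, ∃ b : S, b ∈ 𝒮 1 ∧ y ∈ Proj.basicOpen 𝒮 b) :
    PicF.IsInvertible (Twist.twist 𝒮 1) := by
  have h1 := locTriv_of_cover_one 𝒮 (fun x => hproj x) 1
  rw [Nat.cast_one] at h1
  exact isInvertible_twist' 𝒮 1 h1

variable {M : Type u} [AddCommGroup M] [Module A M] (ι : M →ₗ[A] S) (hι : ∀ m : M, ι m ∈ 𝒮 1)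
  (hsym : IsSymmetricAlgebra ι)

include hsym in
/-- Uniqueness part of the universal property of `Proj (Sym M)`. -/
theorem eq_of_iso_pullback {X : Scheme.{u}} (r r' : X ⟶ Proj 𝒮)
    (hrr' : r ≫ pA 𝒮 = r' ≫ pA 𝒮)
    (τ : (Scheme.Modules.pullback r).obj (Twist.twist 𝒮 1) ≅
      (Scheme.Modules.pullback r').obj (Twist.twist 𝒮 1))
    (hτ : ∀ m : M, τ.hom.app ⊤ (psec 𝒮 r (hι m)) = psec 𝒮 r' (hι m)) : r = r' := by
  have hproj : ∀ y : Proj 𝒮, ∃ m, y ∈ Proj.basicOpen 𝒮 (ι m) := fun y =>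
    exists_notMem_of_adjoin_eq_top 𝒮 (fun m => ι m)
      (adjoin_range_eq_top_of_isSymmetricAlgebra hsym) y
  have hproj' : ∀ y : Proj 𝒮, ∃ b : S, b ∈ 𝒮 1 ∧ y ∈ Proj.basicOpen 𝒮 b := fun y =>
    let ⟨m, hm⟩ := hproj y
    ⟨ι m, hι m, hm⟩
  have hN : PicF.IsInvertible (Twist.twist 𝒮 1) := isInvertible_twist_one 𝒮 hproj'
  let P : X.Modules := (Scheme.Modules.pullback r).obj (Twist.twist 𝒮 1)
  let P' : X.Modules := (Scheme.Modules.pullback r').obj (Twist.twist 𝒮 1)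
  have hP' : PicF.IsInvertible P' := PicLoc.isInvertible_pullback r' hN
  have hgen' : ProjUP.GeneratedBy P' (fun m => psec 𝒮 r' (hι m)) := by
    refine generatedBy_pullSec r' (Twist.twist 𝒮 1) (fun m => gs 𝒮 (hι m)) ?_
    intro U t y hy
    obtain ⟨m, hm⟩ := hproj y
    obtain ⟨c, hc⟩ := (isBasisOn_gs 𝒮 (hι m) (U ⊓ Proj.basicOpen 𝒮 (ι m)) inf_le_right).2
      (mres (Twist.twist 𝒮 1) inf_le_left t)
    refine ⟨U ⊓ Proj.basicOpen 𝒮 (ι m), inf_le_left, m, c, ⟨hy, hm⟩, ?_⟩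
    rw [← hc]
    change c • mres (Twist.twist 𝒮 1) inf_le_right (mres (Twist.twist 𝒮 1) le_top (gs 𝒮 (hι m))) = _
    rw [mres_mres]
  have hcover : ∀ x : X, ∃ W : X.Opens, x ∈ W ∧ W.ι ≫ r = W.ι ≫ r' := by
    intro x
    obtain ⟨m, W, hxW, hbW'⟩ := exists_basis_nhd P' hP' (fun m => psec 𝒮 r' (hι m)) hgen' x
    refine ⟨W, hxW, ?_⟩
    have hτW : ∀ m₀, τ.hom.app W (mres P (le_top : W ≤ ⊤) (psec 𝒮 r (hι m₀))) =
        mres P' (le_top : W ≤ ⊤) (psec 𝒮 r' (hι m₀)) := by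
      intro m₀
      rw [← app_res, hτ m₀]
    have hbW : IsBasisOn P W (mres P (le_top : W ≤ ⊤) (psec 𝒮 r (hι m))) := by
      refine IsBasisOn.of_iso τ ?_
      rw [hτW]
      exact hbW'
    have hW := le_preimage_of_isBasisOn 𝒮 r (hι m) W hbW hproj'
    have hW' := le_preimage_of_isBasisOn 𝒮 r' (hι m) W hbW' hproj'
    rw [ι_comp_eq_localMap 𝒮 r (hι m) W hW, ι_comp_eq_localMap 𝒮 r' (hι m) W hW']
    refine localMap_congr 𝒮 W (hι m) one_pos ?_ _ _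
    let _ : Algebra A Γ(X, W) := (resGlobal (r ≫ pA 𝒮) W).toAlgebra
    let Φ : S →ₐ[A] Γ(X, W) :=
      { toRingHom := chartHom 𝒮 r (hι m) W hW
        commutes' := chartHom_algebraMap 𝒮 r (hι m) W hW }
    let Φ' : S →ₐ[A] Γ(X, W) :=
      { toRingHom := chartHom 𝒮 r' (hι m) W hW'
        commutes' := fun a => by
          change chartHom 𝒮 r' (hι m) W hW' (algebraMap A S a) = resGlobal (r ≫ pA 𝒮) W a
          rw [hrr']
          exact chartHom_algebraMap 𝒮 r' (hι m) W hW' a }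
    have hΦ : Φ = Φ' := by
      apply hsym.algHom_ext
      ext m₀
      change chartHom 𝒮 r (hι m) W hW (ι m₀) = chartHom 𝒮 r' (hι m) W hW' (ι m₀)
      apply (hbW' W le_rfl).1
      change chartHom 𝒮 r (hι m) W hW (ι m₀) •
          mres P' le_rfl (mres P' (le_top : W ≤ ⊤) (psec 𝒮 r' (hι m))) =
        chartHom 𝒮 r' (hι m) W hW' (ι m₀) •
          mres P' le_rfl (mres P' (le_top : W ≤ ⊤) (psec 𝒮 r' (hι m)))
      rw [mres_self, chartHom_smul_psec 𝒮 r' (hι m) W hW' (hι m₀), ← hτW m₀,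
        ← chartHom_smul_psec 𝒮 r (hι m) W hW (hι m₀), Scheme.Modules.Hom.app_smul, hτW]
    exact congrArg (fun Ψ : S →ₐ[A] Γ(X, W) => Ψ.toRingHom) hΦ
  choose W hxW hWeq using hcover
  exact hom_ext_of_cover W (fun x => ⟨x, hxW x⟩) r r' hWeq

end unique

end Groth.Agent.H18.PUP
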